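import Cfsg.Agent.Walter.CI.Pack

/-!
Two components commuting with each other's involution are equal.
-/

set_option autoImplicit false
set_option linter.unusedSectionVars false
set_option linter.style.haveILetI false

namespace Cfsg.Lib.Walter.CI

open Subgroup
open scoped Pointwise commutatorElement

universe u

variable {G : Type u} [Group G] [Finite G]

theorem map_perfect {H : Type u} [Group H] {K : Subgroup G} (hK : ⁅K, K⁆ = K) (f : G →* H) :
    ⁅K.map f, K.map f⁆ = K.map f := by
  rw [← map_commutator, hK]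

/-- a perfect subgroup mapping into a solvable group lies in the kernel -/
theorem le_ker_of_solvable {H : Type u} [Group H] [Finite H] {K : Subgroup G} (hK : ⁅K, K⁆ = K) (f : G →* H)
    {T : Subgroup H} (hT : Group.IsSolvable T) (hle : K.map f ≤ T) : K ≤ f.ker := by
  rw [← Subgroup.map_eq_bot_iff]
  by_contra h
  exact le_of_perfect_solvable (map_perfect hK f) h hT hle

variable [IsSimpleGroup G] (hna : ¬ IsMulCommutative G) (hG : IsCI G) (S : Sylow 2 G)
  (hS : ¬ IsMulCommutative ↥(S : Subgroup G))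
include hna hG hS

theorem pack_le {z u : G} {K L : Subgroup G} (hK : Pack S z K) (hL : Pack S u L)
    (hu : u ∈ centralizer (K : Set G)) : K ≤ L := by
  haveI : Fact (Nat.Prime 2) := ⟨Nat.prime_two⟩
  set C := centralizer ({u} : Set G) with hC
  have hSC : (S : Subgroup G) ≤ C := fun s hs => mem_centralizer_singleton_iff.2 ((mem_Zc.1 hL.zc).2 s hs)
  have hKC : K ≤ C := fun k hk => mem_centralizer_singleton_iff.2 (mem_centralizer_iff.1 hu k hk)
  have hperf := comp_of_perfect hK.comp
  set C' := C ⊓ centralizer (L : Set G) with hC'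
  have hCn : C ≤ normalizer (centralizer (L : Set G) : Set G) := by
    refine fun c hc => mem_normalizer_fintype fun x hx => mem_centralizer_iff.2 fun l hl => ?_
    have h1 := mem_centralizer_iff.1 hx _ ((mem_normalizer_iff''.1 (hL.norm hc) l).1 hl)
    calc l * (c * x * c⁻¹) = c * (c⁻¹ * l * c * x) * c⁻¹ := by group
      _ = c * (x * (c⁻¹ * l * c)) * c⁻¹ := by rw [h1]
      _ = c * x * c⁻¹ * l := by group
  have hC'n : C ≤ normalizer (C' : Set G) := Cfsg.Lib.Coprime.le_normalizer_inf le_normalizer hCn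
  haveI hC'N : (C'.subgroupOf C).Normal := (normal_subgroupOf_iff_le_normalizer inf_le_left).2 hC'n
  obtain ⟨P, hP⟩ := exists_sylow_of_component S hSC (inf_le_left : C' ≤ C) hC'N.isSubnormal
  -- no component
  have hE : Cfsg.layer ↥C' = ⊥ := by
    rw [Cfsg.layer, sSup_eq_bot]
    intro M hM
    exfalso
    have hc : Cfsg.IsComponentOf (M.map C'.subtype) C := by
      refine ⟨(map_subtype_le M).trans inf_le_left, ?_⟩
      have hsn : (C'.subgroupOf C).IsSubnormal := hC'N.isSubnormal
      have h1 := (Cfsg.Lib.Components.comp_map_subtype_iff hsn (K := M.map (subgroupOfEquivOfLe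
        (inf_le_left : C' ≤ C)).symm.toMonoidHom)).2 (Cfsg.Lib.Components.comp_map_equiv hM _)
      convert h1 using 1
      ext x
      simp only [mem_subgroupOf, Subgroup.mem_map]
      constructor
      · rintro ⟨m, hm, e⟩
        exact ⟨_, ⟨m, hm, rfl⟩, Subtype.ext e⟩
      · rintro ⟨_, ⟨m, hm, rfl⟩, e⟩
        exact ⟨m, hm, congrArg Subtype.val e⟩
    have he := component_unique hG S hS hL.zc hL.comp hc
    refine comp_not_solvable hL.comp (Group.isSolvable_of_comm fun a b => Subtype.ext ?_)
    have hbC : (b : G) ∈ C' := (map_subtype_le M) (he.ge b.2)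
    exact mem_centralizer_iff.1 hbC.2 a a.2
  have hsolC' : Group.IsSolvable ↥C' := by
    refine solvable_of_normal_sylow P (normal_inf_of_no_component S hna hG hS C' (hSC.trans hC'n) P hP hE
      fun x hx y hy => ?_)
    haveI : (Cfsg.pCore 2 ↥C').Normal := (Cfsg.Lib.Components.pCore_normal_and_isPGroup 2).1
    have hxP := (Cfsg.Lib.Components.isPGroup_pCore 2).le_sylow_of_normal P hx
    rw [hP, mem_subgroupOf] at hxP hy
    exact Subtype.ext ((mem_Zc.1 (hL.central (mem_inf.2 ⟨hy, y.2.2⟩))).2 x hxP)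
  -- pass to `C / L`
  have hLC : L ≤ C := hL.comp.1
  haveI : (L.subgroupOf C).Normal := (normal_subgroupOf_iff_le_normalizer hLC).2 hL.norm
  set π := QuotientGroup.mk' (L.subgroupOf C) with hπ
  set T := (C'.subgroupOf C).map π with hT
  haveI : T.Normal := hC'N.map π (QuotientGroup.mk'_surjective _)
  have hTsol : Group.IsSolvable ↥T := Cfsg.Lib.Coprime.isSolvable_map
    (Group.isSolvable_of_surjective (f := (subgroupOfEquivOfLe (inf_le_left : C' ≤ C)).symm.toMonoidHom)
      (subgroupOfEquivOfLe (inf_le_left : C' ≤ C)).symm.surjective) π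
  have hperf' : ⁅K.subgroupOf C, K.subgroupOf C⁆ = K.subgroupOf C := by
    apply map_injective C.subtype_injective
    rw [map_commutator, map_subgroupOf_eq_of_le hKC, hperf]
  have hsolTop : Group.IsSolvable ↥(⊤ : Subgroup ((↥C ⧸ L.subgroupOf C) ⧸ T)) := by
    refine Cfsg.Agent.PF.isSolvable_of_odd _ ?_
    rw [card_top, ← Nat.not_even_iff_odd, even_iff_two_dvd, ← index_eq_card]
    intro h2
    have h3 : 2 ∣ (T.comap π).index := by rwa [index_comap_of_surjective _ (QuotientGroup.mk'_surjective _)]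
    refine (S.subtype hSC).not_dvd_index (h3.trans (index_dvd_of_le ?_))
    intro s hs
    obtain ⟨q, hq, d, hd, hsd⟩ := hL.decomp _ hs
    change (s : G) = q * d at hsd
    have hd' : d ∈ C' := mem_inf.2 ⟨hSC (mem_inf.1 hd).1, (mem_inf.1 hd).2⟩
    refine mem_comap.2 ⟨⟨d, inf_le_left (a := C) hd'⟩, hd', ?_⟩
    refine QuotientGroup.eq.2 (mem_subgroupOf.2 ?_)
    show d⁻¹ * (s : G) ∈ L
    rw [hsd, ← mul_assoc, mul_assoc d⁻¹ q d, mem_centralizer_iff.1 (mem_inf.1 hd).2 q (mem_inf.1 hq).2,
      inv_mul_cancel_left]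
    exact (mem_inf.1 hq).2
  have h1 : K.subgroupOf C ≤ ((QuotientGroup.mk' T).comp π).ker :=
    le_ker_of_solvable hperf' _ hsolTop le_top
  rw [← MonoidHom.comap_ker, QuotientGroup.ker_mk'] at h1
  have h2 := le_ker_of_solvable hperf' π hTsol (map_le_iff_le_comap.2 h1)
  rw [hπ, QuotientGroup.ker_mk'] at h2
  exact fun k hk => h2 (show (⟨k, hKC hk⟩ : ↥C) ∈ K.subgroupOf C from hk)

/-- components commuting with the other involution coincide -/
theorem pack_unique {z u : G} {K L : Subgroup G} (hK : Pack S z K) (hL : Pack S u L)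
    (hu : u ∈ centralizer (K : Set G)) : L = K := by
  have hle := pack_le hna hG S hS hK hL hu
  refine le_antisymm (pack_le hna hG S hS hL hK ?_) hle
  obtain ⟨q, hq, d, hd, hz⟩ := hL.decomp z hK.zc.1
  obtain ⟨hdS, hdC⟩ := mem_inf.1 hd
  obtain ⟨hqS, hqL⟩ := mem_inf.1 hq
  by_cases hqC : q ∈ centralizer (L : Set G)
  · exact hz ▸ mul_mem hqC hdC
  exfalso
  have hcm : q * d = d * q := mem_centralizer_iff.1 hdC q hqL
  have hq2 : q * q ∈ centralizer (L : Set G) := by
    have h0 : z * z = 1 := by rw [← pow_two, ← hK.ord, pow_orderOf_eq_one]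
    have h2 : q * q * (d * d) = 1 := by
      rw [← h0, hz]
      calc q * q * (d * d) = q * (q * d) * d := by group
        _ = q * (d * q) * d := by rw [hcm]
        _ = _ := by group
    rw [eq_inv_of_mul_eq_one_left h2]
    exact inv_mem (mul_mem hdC hdC)
  refine le_of_perfect_solvable (comp_of_perfect hK.comp) (comp_ne_bot hK.comp) (hL.solv q hq hqC hq2)
    fun k hk => mem_inf.2 ⟨hle hk, mem_centralizer_singleton_iff.2 ?_⟩
  have hkz : k * z = z * k := mem_centralizer_singleton_iff.1 (hK.comp.1 hk)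
  have hkd : k * d = d * k := mem_centralizer_iff.1 hdC k (hle hk)
  rw [hz] at hkz
  calc k * q = k * (q * d) * d⁻¹ := by group
    _ = q * (d * k) * d⁻¹ := by rw [hkz]; group
    _ = q * (k * d) * d⁻¹ := by rw [hkd]
    _ = q * k := by group

end Cfsg.Lib.Walter.CI
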