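import Cfsg.Agent.Walter.CI.Cover
import Cfsg.Agent.Walter.CI.Unique
import Cfsg.Agent.S1174

/-!
A simple group with central Sylow 2-intersections and non-abelian Sylow 2-subgroups has a strongly embedded
subgroup, given that the smaller simple groups with abelian Sylow 2-subgroups have them elementary.
-/

set_option autoImplicit false
set_option linter.unusedSectionVars false
set_option linter.style.haveILetI false

namespace Cfsg.Lib.Walter.CI

open Subgroup
open scoped Pointwise commutatorElement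

universe u

/-- the Sylow 2-subgroups of a simple group are elementary as soon as they are abelian -/
def ElemProp : Prop :=
  ∀ (X : Type u) [Group X] [Finite X] [IsSimpleGroup X], ¬ IsMulCommutative X → ∀ P : Sylow 2 X,
    IsMulCommutative ↥(P : Subgroup X) → ∀ x ∈ (P : Subgroup X), x * x = 1

variable {G : Type u} [Group G] [Finite G]

theorem comp_transport {C C' K : Subgroup G} (h : Cfsg.IsComponentOf K C) (e : G ≃* G)
    (hC : C.map e.toMonoidHom = C') : Cfsg.IsComponentOf (K.map e.toMonoidHom) C' := by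
  subst hC
  refine ⟨map_mono h.1, ?_⟩
  have h1 := Cfsg.Lib.Components.comp_map_equiv h.2 (C.equivMapOfInjective e.toMonoidHom e.injective)
  convert h1 using 1
  ext x
  simp only [mem_subgroupOf, Subgroup.mem_map]
  constructor
  · rintro ⟨k, hk, hkx⟩
    exact ⟨⟨k, h.1 hk⟩, hk, Subtype.ext hkx⟩
  · rintro ⟨k, hk, hkx⟩
    exact ⟨k, hk, congrArg Subtype.val hkx⟩

/-- the central quotient of the component, given the case of non-abelian Sylow subgroups -/
theorem quot_embedded_of (hG : IsCI G) (S : Sylow 2 G) (hS : ¬ IsMulCommutative ↥(S : Subgroup G))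
    (elem : ElemProp.{u}) {z : G} (hz : z ∈ Zc S) {K : Subgroup G}
    (hK : Cfsg.IsComponentOf K (centralizer ({z} : Set G))) [IsSimpleGroup (↥K ⧸ center ↥K)]
    (hnc : ¬ IsMulCommutative (↥K ⧸ center ↥K) → IsCI (↥K ⧸ center ↥K) → ∀ P : Sylow 2 (↥K ⧸ center ↥K),
      ¬ IsMulCommutative ↥(P : Subgroup (↥K ⧸ center ↥K)) →
      ∃ H : Subgroup (↥K ⧸ center ↥K), Cfsg.IsStronglyEmbedded H) :
    ∃ H : Subgroup (↥K ⧸ center ↥K), Cfsg.IsStronglyEmbedded H := by
  haveI : Fact (Nat.Prime 2) := ⟨Nat.prime_two⟩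
  have hq := comp_qs hK
  have hnab : ¬ IsMulCommutative (↥K ⧸ center ↥K) := Cfsg.Lib.CpQuot.not_commutative hq
  obtain ⟨P, hP⟩ := sylow_component hG S hS hz hK
  have hπs : Function.Surjective (QuotientGroup.mk' (center ↥K)) := QuotientGroup.mk'_surjective _
  set π := QuotientGroup.mk' (center ↥K) with hπ
  set Pb := P.mapSurjective hπs
  by_cases hab : IsMulCommutative ↥(Pb : Subgroup (↥K ⧸ center ↥K))
  swap
  · exact hnc hnab ((IsCI.subgroup hG K).quotient (center ↥K) le_rfl) Pb hab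
  have hel := elem _ hnab Pb hab
  have hmemP : ∀ x : ↥K, x ∈ (P : Subgroup K) ↔ (x : G) ∈ (S : Subgroup G) := fun x => by rw [hP, mem_subgroupOf]
  -- a central element of `K` in `S` is central in `S`
  have hZ : ∀ c : ↥K, c ∈ center ↥K → (c : G) ∈ (S : Subgroup G) → (c : G) ∈ Zc S := fun c hc hcS =>
    centralizer_le_Zc hG S hS hz hK (mem_inf.2 ⟨hcS, (mem_center_coe c).1 hc⟩)
  obtain ⟨x₁, hx₁, hx₁Z⟩ := SetLike.not_le_iff_exists.1 (not_le_Zc hG S hS hz hK)
  obtain ⟨hx₁S, hx₁K⟩ := mem_inf.1 hx₁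
  set P₀ := ((Zc S).subgroupOf K).map π with hP₀
  have hP₀P : P₀ < (Pb : Subgroup (↥K ⧸ center ↥K)) := by
    refine lt_of_le_of_ne ?_ fun he => hx₁Z ?_
    · rintro _ ⟨x, hx, rfl⟩
      exact mem_map_of_mem π ((hmemP x).2 (mem_subgroupOf.1 hx).1)
    · have hm : π ⟨x₁, hx₁K⟩ ∈ P₀ := he ▸ mem_map_of_mem π ((hmemP _).2 hx₁S)
      obtain ⟨y, hy, hyx⟩ := hm
      have hyZ : (y : G) ∈ Zc S := mem_subgroupOf.1 hy
      have h1 := hZ (y⁻¹ * ⟨x₁, hx₁K⟩) (QuotientGroup.eq.1 (show (QuotientGroup.mk y : ↥K ⧸ center ↥K) = QuotientGroup.mk ⟨x₁, hx₁K⟩ from hyx)) (mul_mem (inv_mem hyZ.1) hx₁S)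
      have h2 := mul_mem hyZ h1
      rwa [show ((y⁻¹ * ⟨x₁, hx₁K⟩ : ↥K) : G) = (y : G)⁻¹ * x₁ from rfl, mul_inv_cancel_left] at h2
  have hev : Even (Nat.card ↥(Pb : Subgroup (↥K ⧸ center ↥K))) := by
    obtain ⟨n, hn⟩ := IsPGroup.iff_card.1 Pb.2
    rcases n with _ | n
    · refine absurd (lt_of_lt_of_le hP₀P ?_) not_lt_bot
      exact (card_eq_one.1 (by rw [hn, pow_zero])).le
    · rw [hn, pow_succ']; exact even_two_mul _
  refine ⟨_, embedded_of_centralizers hnab Pb hev hel P₀ hP₀P ?_⟩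
  intro y hy hy0
  obtain ⟨p, hp, rfl⟩ := (show y ∈ (P : Subgroup K).map π from hy)
  have hpS := (hmemP p).1 hp
  have hpZ : (p : G) ∉ Zc S := fun h => hy0 (mem_map_of_mem π (mem_subgroupOf.2 h))
  intro c hc
  obtain ⟨g, rfl⟩ := hπs c
  have hcomm := mem_centralizer_singleton_iff.1 hc
  rw [← map_mul, ← map_mul] at hcomm
  set e := p⁻¹ * (g⁻¹ * p * g) with he
  have hec : e ∈ center ↥K := by
    have h1 := QuotientGroup.eq.1 hcomm
    have h2 : e = p⁻¹ * (g⁻¹ * p * g) := rfl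
    have h3 : ((g * p)⁻¹ * (p * g)) = e := by rw [h2]; group
    rwa [h3] at h1
  have hgp : g⁻¹ * p * g = p * e := by rw [he, mul_inv_cancel_left]
  -- `e` is a 2-element, so it lies in `S`
  have heS : (e : G) ∈ (S : Subgroup G) := by
    obtain ⟨k, hk⟩ := P.isPGroup'.exists_orderOf_eq_pow ⟨p, hp⟩
    rw [Subgroup.orderOf_mk] at hk
    have hpe : Commute p e := mem_center_iff.1 hec p
    have h1 : e ^ 2 ^ k = 1 := by
      have h2 : (p * e) ^ 2 ^ k = 1 := by
        rw [← hgp]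
        have : orderOf (g⁻¹ * p * g) = 2 ^ k := by
          rw [show g⁻¹ * p * g = MulAut.conj g⁻¹ p by simp, MulEquiv.orderOf_eq, hk]
        rw [← this, pow_orderOf_eq_one]
      rw [hpe.mul_pow, ← hk, pow_orderOf_eq_one, one_mul] at h2
      rwa [← hk]
    obtain ⟨j, -, hj⟩ := (Nat.dvd_prime_pow Nat.prime_two).1 (orderOf_dvd_of_pow_eq_one h1)
    have hp2 : IsPGroup 2 ↥(zpowers e) := IsPGroup.of_card (n := j) (by rw [Nat.card_zpowers, hj])
    haveI : (zpowers e).Normal := ⟨fun a ha b => by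
      rw [mem_center_iff.1 (zpowers_le.2 hec ha) b, mul_inv_cancel_right]; exact ha⟩
    exact (hmemP e).1 (hp2.le_sylow_of_normal P (mem_zpowers e))
  have hgN : (g : G) ∈ normalizer ((S : Subgroup G) : Set G) := by
    refine mem_normalizer_of_conj hG hpS hpZ ?_
    have := congrArg Subtype.val hgp
    push_cast at this
    rw [this]
    exact mul_mem hpS heS
  refine mem_normalizer_fintype ?_
  rintro _ ⟨x, hx, rfl⟩
  rw [← map_inv, ← map_mul, ← map_mul]
  exact mem_map_of_mem π ((hmemP _).2 ((mem_normalizer_iff.1 hgN _).1 ((hmemP x).1 hx)))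

section simple

variable [IsSimpleGroup G] (hna : ¬ IsMulCommutative G) (hG : IsCI G) (S : Sylow 2 G)
  (hS : ¬ IsMulCommutative ↥(S : Subgroup G))
include hna hG hS

/-- the central quotient of the component has a strongly embedded subgroup -/
theorem quot_embedded (elem : ElemProp.{u})
    (ih : ∀ (X : Type u) [Group X] [Finite X] [IsSimpleGroup X], Nat.card X < Nat.card G → ¬ IsMulCommutative X →
      IsCI X → ∀ P : Sylow 2 X, ¬ IsMulCommutative ↥(P : Subgroup X) → ∃ H : Subgroup X, Cfsg.IsStronglyEmbedded H)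
    {z : G} (hz : z ∈ Zc S) (hz2 : orderOf z = 2) {K : Subgroup G}
    (hK : Cfsg.IsComponentOf K (centralizer ({z} : Set G))) :
    ∃ H : Subgroup (↥K ⧸ center ↥K), Cfsg.IsStronglyEmbedded H := by
  haveI : Fact (Nat.Prime 2) := ⟨Nat.prime_two⟩
  have hq := comp_qs hK
  haveI := hq.2
  have hnab : ¬ IsMulCommutative (↥K ⧸ center ↥K) := Cfsg.Lib.CpQuot.not_commutative hq
  have hne : centralizer ({z} : Set G) ≠ ⊤ := by
    intro h
    have hzc : z ∈ center G := mem_center_iff.2 fun g =>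
      (mem_centralizer_singleton_iff.1 (h.ge (mem_top g)))
    rcases IsSimpleGroup.eq_bot_or_eq_top_of_normal (center G) inferInstance with e | e
    · rw [e, mem_bot] at hzc
      rw [hzc, orderOf_one] at hz2
      exact absurd hz2 (by decide)
    · exact hna ⟨⟨fun a b => mem_center_iff.1 (e.ge (mem_top b)) a⟩⟩
  have hlt : Nat.card (↥K ⧸ center ↥K) < Nat.card G := by
    refine lt_of_le_of_lt (Nat.card_le_card_of_surjective _ (QuotientGroup.mk'_surjective _)) ?_
    exact lt_of_le_of_lt (Nat.card_le_card_of_injective _ (inclusion_injective hK.1))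
      (Cfsg.Lib.Components.card_lt_of_ne_top hne)
  exact quot_embedded_of hG S hS elem hz hK fun h1 h2 P h3 => ih _ hlt h1 h2 P h3

theorem bad_zc {z : G} (h : IsBad S z) : z ∈ Zc S := by
  obtain ⟨T, hT, hzT⟩ := h.2.2
  exact mem_Zc_of_inf hG (Ne.symm hT) h.1 hzT

theorem bad_of_pack {z u : G} {K : Subgroup G} (hK : Pack S z K) (huS : u ∈ (S : Subgroup G)) (hu2 : orderOf u = 2)
    (hu : u ∈ centralizer (K : Set G)) : IsBad S u := by
  obtain ⟨k, hk, hne⟩ := exists_moved hG S hS hK.zc hK.comp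
  refine ⟨huS, hu2, k • S, moved_ne hG S hS hK.zc hK.comp hne, ?_⟩
  rw [Sylow.coe_subgroup_smul]
  exact ⟨u, huS, show k * u * k⁻¹ = u by rw [mem_centralizer_iff.1 hu k hk, mul_inv_cancel_right]⟩

/-- two different components cannot occur -/
theorem no_two (hpack : ∀ u, IsBad S u → ∃ L, Pack S u L) {z z' : G} {K K' : Subgroup G}
    (hK : Pack S z K) (hK' : Pack S z' K') (hne : K ≠ K') : False := by
  haveI : Fact (Nat.Prime 2) := ⟨Nat.prime_two⟩
  have hord : ∀ {w : G}, w ∈ Wz S → w ≠ 1 → orderOf w = 2 := fun {w} hw h1 =>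
    orderOf_eq_prime (by rw [pow_two]; exact hw.2) h1
  have hboth : ∀ w ∈ Wz S, w ∈ centralizer (K : Set G) → w ∈ centralizer (K' : Set G) → w = 1 := by
    intro w hw h h'
    by_contra h1
    obtain ⟨L, hL⟩ := hpack w (bad_of_pack hna hG S hS hK hw.1.1 (hord hw h1) h)
    exact hne ((pack_unique hna hG S hS hK hL h).symm.trans (pack_unique hna hG S hS hK' hL h'))
  have hzW : ∀ {v : G} {L : Subgroup G}, Pack S v L → v ∈ Wz S ∧ v ∈ centralizer (L : Set G) := fun {v L} h =>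
    ⟨mem_Wz.2 ⟨h.zc, by rw [← pow_two, ← h.ord, pow_orderOf_eq_one]⟩,
      mem_centralizer_iff.2 fun l hl => mem_centralizer_singleton_iff.1 (h.comp.1 hl)⟩
  have hWK : ∀ {v v' : G} {L L' : Subgroup G}, Pack S v L → Pack S v' L' → L ≠ L' →
      ¬ Wz S ≤ centralizer (L : Set G) := by
    intro v v' L L' h h' hne' hW
    obtain ⟨hv'W, -⟩ := hzW h'
    exact hne' (pack_unique hna hG S hS h h' (hW hv'W)).symm
  set D := ⁅(S : Subgroup G), (S : Subgroup G)⁆ with hD
  have hDN : ∀ n ∈ normalizer ((S : Subgroup G) : Set G), ∀ x ∈ D, n * x * n⁻¹ ∈ D := by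
    intro n hn x hx
    have h1 : D.map (MulAut.conj n).toMonoidHom = D := by
      have hSn : (S : Subgroup G).map (MulAut.conj n).toMonoidHom = S := Cfsg.Lib.Coprime.conjMap_eq_self hn
      rw [hD, map_commutator, hSn]
    exact h1.le (mem_map_of_mem _ hx)
  set U := Wz S ⊓ D with hU
  have key : ∀ {v v' : G} {L L' : Subgroup G}, Pack S v L → Pack S v' L' → L ≠ L' →
      D ⊓ centralizer (L : Set G) = ⊥ ∧
      (∀ n ∈ L, n ∈ normalizer ((S : Subgroup G) : Set G) → ∀ w ∈ Wz S, w⁻¹ * (n * w * n⁻¹) ∈ U) ∧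
      (∀ w ∈ Wz S, (∀ n ∈ L, n ∈ normalizer ((S : Subgroup G) : Set G) → n * w * n⁻¹ = w) →
        w ∈ centralizer (L : Set G)) := by
    intro v v' L L' h h' hne'
    have htriv := inf_centralizer_eq_bot h (hWK h h' hne')
    have hsq : ∀ {w q d : G}, w ∈ Wz S → q ∈ L → d ∈ centralizer (L : Set G) → w = q * d →
        q * q ∈ centralizer (L : Set G) := by
      intro w q d hw hq hd e
      have hcm : q * d = d * q := mem_centralizer_iff.1 hd q hq
      have h2 : q * q * (d * d) = 1 := by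
        rw [← hw.2, e]
        calc q * q * (d * d) = q * (q * d) * d := by group
          _ = q * (d * q) * d := by rw [hcm]
          _ = _ := by group
      rw [eq_inv_of_mul_eq_one_left h2]
      exact inv_mem (mul_mem hd hd)
    have hDL : D ≤ (S : Subgroup G) ⊓ L := by
      rw [hD, commutator_le]
      intro a ha b hb
      obtain ⟨q, hq, d, hd, rfl⟩ := h.decomp a ha
      obtain ⟨r, hr, e, he, rfl⟩ := h.decomp b hb
      obtain ⟨hqS, hqL⟩ := mem_inf.1 hq
      obtain ⟨hrS, hrL⟩ := mem_inf.1 hr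
      have hde : ∀ s ∈ (S : Subgroup G), Commute s d ∧ Commute s e := fun s hs =>
        ⟨(mem_Zc.1 (h.central hd)).2 s hs, (mem_Zc.1 (h.central he)).2 s hs⟩
      have e1 : ⁅q * d, r * e⁆ = ⁅q, r⁆ := by
        simp only [commutatorElement_def]
        calc q * d * (r * e) * (q * d)⁻¹ * (r * e)⁻¹ = q * (d * (r * e)) * d⁻¹ * q⁻¹ * (r * e)⁻¹ := by group
          _ = q * ((r * e) * d) * d⁻¹ * q⁻¹ * (r * e)⁻¹ := by rw [((hde _ (mul_mem hrS he.1)).1).eq]
          _ = q * r * (e * q⁻¹) * e⁻¹ * r⁻¹ := by group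
          _ = q * r * (q⁻¹ * e) * e⁻¹ * r⁻¹ := by rw [((hde _ (inv_mem hqS)).2).eq]
          _ = _ := by group
      rw [e1]
      exact mem_inf.2 ⟨mul_mem (mul_mem (mul_mem hqS hrS) (inv_mem hqS)) (inv_mem hrS),
        mul_mem (mul_mem (mul_mem hqL hrL) (inv_mem hqL)) (inv_mem hrL)⟩
    have hDC : D ⊓ centralizer (L : Set G) = ⊥ := le_bot_iff.1 (htriv ▸ inf_le_inf_right _ hDL)
    refine ⟨hDC, fun n hn hnS w hw => ?_, fun w hw hfix => ?_⟩
    · obtain ⟨q, hq, d, hd, hwe⟩ := h.decomp w hw.1.1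
      obtain ⟨hqS, hqL⟩ := mem_inf.1 hq
      set r := w⁻¹ * (n * w * n⁻¹) with hr
      have hrW : r ∈ Wz S := mul_mem (inv_mem hw) (Wz_conj S hnS hw)
      have hrL : r ∈ L := by
        rw [hr, show w⁻¹ * (n * w * n⁻¹) = w⁻¹ * n * w * n⁻¹ by group]
        exact mul_mem ((mem_normalizer_iff''.1
          (h.norm (mem_centralizer_singleton_iff.2 ((mem_Zc.1 h.zc).2 w hw.1.1))) n).1 hn) (inv_mem hn)
      refine mem_inf.2 ⟨hrW, ?_⟩
      by_cases hrC : r ∈ centralizer (L : Set G)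
      · rw [(eq_bot_iff_forall _).1 htriv r ⟨⟨hrW.1.1, hrL⟩, hrC⟩]
        exact one_mem _
      -- an involution of `D`
      have hD1 : D ≠ ⊥ := by
        intro e
        refine hS ⟨⟨fun a b => Subtype.ext ?_⟩⟩
        have := commutator_mem_commutator a.2 b.2
        rw [← hD, e, mem_bot] at this
        exact commutatorElement_eq_one_iff_mul_comm.1 this
      have hDev : 2 ∣ Nat.card D := by
        obtain ⟨m, hm⟩ := IsPGroup.iff_card.1 (S.2.to_le (hDL.trans inf_le_left))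
        rcases m with _ | m
        · exact absurd (card_eq_one.1 (by rw [hm, pow_zero])) hD1
        · exact hm ▸ dvd_pow_self 2 (Nat.succ_ne_zero m)
      obtain ⟨⟨c, hcD⟩, hc⟩ := exists_prime_orderOf_dvd_card' 2 hDev
      rw [Subgroup.orderOf_mk] at hc
      have hcC : c ∉ centralizer (L : Set G) := fun hh => by
        rw [(eq_bot_iff_forall _).1 hDC c ⟨hcD, hh⟩, orderOf_one] at hc
        exact absurd hc (by decide)
      obtain ⟨m, hm, hmS, hmc⟩ := h.fuse c (hDL hcD) r (mem_inf.2 ⟨hrW.1.1, hrL⟩) hcC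
        (by rw [← pow_two, ← hc, pow_orderOf_eq_one]; exact one_mem _) hrC (hrW.2 ▸ one_mem _)
      have hmem : m * c * m⁻¹ * r⁻¹ ∈ (S : Subgroup G) ⊓ L :=
        mem_inf.2 ⟨mul_mem ((mem_normalizer_iff.1 hmS c).1 (hDL hcD).1) (inv_mem hrW.1.1),
          mul_mem (mul_mem (mul_mem hm (hDL hcD).2) (inv_mem hm)) (inv_mem hrL)⟩
      have := (eq_bot_iff_forall _).1 htriv _ ⟨hmem, hmc⟩
      rw [mul_inv_eq_one] at this
      exact this ▸ hDN m hmS c hcD
    · obtain ⟨q, hq, d, hd, hwe⟩ := h.decomp w hw.1.1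
      obtain ⟨hqS, hqL⟩ := mem_inf.1 hq
      obtain ⟨hdS, hdC⟩ := mem_inf.1 hd
      by_cases hqC : q ∈ centralizer (L : Set G)
      · exact hwe ▸ mul_mem hqC hdC
      exfalso
      obtain ⟨n, hn, hnS, hnq⟩ := h.moved q hq hqC (hsq hw hqL hdC hwe)
      refine hnq ?_
      have h1 := hfix n hn hnS
      rw [hwe] at h1
      have hnd : n * d * n⁻¹ = d := by rw [mem_centralizer_iff.1 hdC n hn, mul_inv_cancel_right]
      rw [show n * (q * d) * n⁻¹ = n * q * n⁻¹ * (n * d * n⁻¹) by group, hnd] at h1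
      rw [mul_right_cancel h1, mul_inv_cancel]
      exact one_mem _
  obtain ⟨hDC, hcom, hfixed⟩ := key hK hK' hne
  obtain ⟨-, hcom', hfixed'⟩ := key hK' hK (Ne.symm hne)
  -- the elements of `N(S)` acting trivially on `W / U`
  have hUW : ∀ n ∈ normalizer ((S : Subgroup G) : Set G), ∀ x ∈ U, n * x * n⁻¹ ∈ U := fun n hn x hx =>
    mem_inf.2 ⟨Wz_conj S hn hx.1, hDN n hn x hx.2⟩
  let N : Subgroup G :=
    { carrier := {n | n ∈ normalizer ((S : Subgroup G) : Set G) ∧ ∀ w ∈ Wz S, w⁻¹ * (n * w * n⁻¹) ∈ U}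
      one_mem' := ⟨one_mem _, fun w _ => by simp⟩
      mul_mem' := fun {a b} ha hb => ⟨mul_mem ha.1 hb.1, fun w hw => by
        have h1 := ha.2 w hw
        have h2 := hUW a ha.1 _ (hb.2 w hw)
        have := mul_mem h1 h2
        rwa [show w⁻¹ * (a * w * a⁻¹) * (a * (w⁻¹ * (b * w * b⁻¹)) * a⁻¹) = w⁻¹ * (a * b * w * (a * b)⁻¹) by
          group] at this⟩
      inv_mem' := fun {a} ha => ⟨inv_mem ha.1, fun w hw => by
        have := hUW a⁻¹ (inv_mem ha.1) _ (inv_mem (ha.2 w hw))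
        rwa [show a⁻¹ * (w⁻¹ * (a * w * a⁻¹))⁻¹ * a⁻¹⁻¹ = w⁻¹ * (w * (a⁻¹ * (a * w⁻¹ * a⁻¹) * w * a)) by group,
          show w⁻¹ * (w * (a⁻¹ * (a * w⁻¹ * a⁻¹) * w * a)) = w⁻¹ * (a⁻¹ * w * a⁻¹⁻¹) by group] at this⟩ }
  obtain ⟨φ, hφfix, -, -, hφU⟩ := exists_average S N fun n hn => hn.1
  obtain ⟨hzW', hzC⟩ := hzW hK
  have hv : (φ ⟨z, hzW'⟩ : G) = 1 := hboth _ (φ ⟨z, hzW'⟩).2
    (hfixed _ (φ ⟨z, hzW'⟩).2 fun n hn hnS => hφfix n ⟨hnS, hcom n hn hnS⟩ _)
    (hfixed' _ (φ ⟨z, hzW'⟩).2 fun n hn hnS => hφfix n ⟨hnS, hcom' n hn hnS⟩ _)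
  have h1 := hφU U ⟨z, hzW'⟩ fun n hn => hn.2 z hzW'
  rw [hv, mul_one] at h1
  have h2 : z = 1 := (eq_bot_iff_forall _).1 hDC z ⟨(mem_inf.1 (inv_mem_iff.1 h1)).2, hzC⟩
  have := hK.ord
  rw [h2, orderOf_one] at this
  exact absurd this (by decide)

theorem exists_embedded_step (elem : ElemProp.{u})
    (ih : ∀ (X : Type u) [Group X] [Finite X] [IsSimpleGroup X], Nat.card X < Nat.card G → ¬ IsMulCommutative X →
      IsCI X → ∀ P : Sylow 2 X, ¬ IsMulCommutative ↥(P : Subgroup X) → ∃ H : Subgroup X, Cfsg.IsStronglyEmbedded H) :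
    ∃ H : Subgroup G, Cfsg.IsStronglyEmbedded H := by
  haveI : Fact (Nat.Prime 2) := ⟨Nat.prime_two⟩
  have hev : Even (Nat.card ↥(S : Subgroup G)) := by
    obtain ⟨n, hn⟩ := IsPGroup.iff_card.1 S.2
    rcases n with _ | n
    · refine absurd ?_ hS
      haveI := (Nat.card_eq_one_iff_unique.1 (hn.trans (pow_zero 2))).1
      exact ⟨⟨fun a b => Subsingleton.elim _ _⟩⟩
    · rw [hn, pow_succ']; exact even_two_mul _
  by_cases hno : ∀ z, ¬ IsBad S z
  · exact ⟨_, embedded_of_no_bad hna S hev hno⟩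
  push Not at hno
  obtain ⟨z₀, hz₀⟩ := hno
  have hpack : ∀ u, IsBad S u → ∃ L, Pack S u L := by
    intro u hu
    obtain ⟨T, hT, huT⟩ := hu.2.2
    obtain ⟨L, hL⟩ := exists_component hna hG S hS (bad_zc hna hG S hS hu) hT huT
    exact ⟨L, exists_pack hG S hS (bad_zc hna hG S hS hu) hu.2.1 hL
      (quot_embedded hna hG S hS elem ih (bad_zc hna hG S hS hu) hu.2.1 hL)⟩
  obtain ⟨K, hK⟩ := hpack z₀ hz₀
  have hall : ∀ u L, IsBad S u → Pack S u L → L = K := fun u L _ hL => by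
    by_contra h
    exact no_two hna hG S hS hpack hL hK h
  -- the normaliser of `S` normalises `K`
  have hNK : normalizer ((S : Subgroup G) : Set G) ≤ normalizer (K : Set G) := by
    intro n hn
    have hu : IsBad S (n * z₀ * n⁻¹) := by
      obtain ⟨T, hT, hzT⟩ := hz₀.2.2
      refine ⟨(mem_normalizer_iff.1 hn z₀).1 hz₀.1, ?_, n • T, fun e => hT ?_, ?_⟩
      · rw [show n * z₀ * n⁻¹ = MulAut.conj n z₀ from rfl, MulEquiv.orderOf_eq, hz₀.2.1]
      · have := congrArg (fun R => n⁻¹ • R) (e.trans (Sylow.smul_eq_iff_mem_normalizer.2 hn).symm)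
        simpa using this
      · rw [Sylow.coe_subgroup_smul]; exact ⟨z₀, hzT, rfl⟩
    obtain ⟨L, hL⟩ := hpack _ hu
    have hC : (centralizer ({z₀} : Set G)).map (MulAut.conj n).toMonoidHom =
        centralizer ({n * z₀ * n⁻¹} : Set G) := by
      ext g
      rw [Cfsg.Lib.StrongEmb.mem_conj_iff, mem_centralizer_singleton_iff, mem_centralizer_singleton_iff]
      constructor
      · intro h
        calc g * (n * z₀ * n⁻¹) = n * (n⁻¹ * g * n * z₀) * n⁻¹ := by group
          _ = n * (z₀ * (n⁻¹ * g * n)) * n⁻¹ := by rw [h]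
          _ = n * z₀ * n⁻¹ * g := by group
      · intro h
        calc n⁻¹ * g * n * z₀ = n⁻¹ * (g * (n * z₀ * n⁻¹)) * n := by group
          _ = n⁻¹ * (n * z₀ * n⁻¹ * g) * n := by rw [h]
          _ = z₀ * (n⁻¹ * g * n) := by group
    have h1 := component_unique hG S hS hL.zc hL.comp (comp_transport hK.comp (MulAut.conj n) hC)
    rw [hall _ L hu hL] at h1
    exact (Cfsg.Lib.Coprime.conjMap_eq_self_iff).1 h1
  have hW1 : Wz S ≠ ⊥ := fun e => by
    have hm : z₀ ∈ Wz S := mem_Wz.2 ⟨bad_zc hna hG S hS hz₀, by rw [← pow_two, ← hz₀.2.1, pow_orderOf_eq_one]⟩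
    rw [e, mem_bot] at hm
    have := hz₀.2.1
    rw [hm, orderOf_one] at this
    exact absurd this (by decide)
  refine Cfsg.Agent.S1174.result S (Wz S) hW1 ⟨Wz_le S, fun x hx g hg => mem_Wz.2 ⟨stronglyClosed hG S hx.1 hg, by
    rw [show g * x * g⁻¹ * (g * x * g⁻¹) = g * (x * x) * g⁻¹ by group, hx.2, mul_one, mul_inv_cancel]⟩⟩ fun htop => ?_
  have hle : (⨆ t : {t : G // t ∈ Wz S ∧ orderOf t = 2}, centralizer ({(t : G)} : Set G)) ≤
      normalizer (K : Set G) := by
    refine iSup_le fun ⟨t, ht, ht2⟩ => ?_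
    by_cases hb : IsBad S t
    · obtain ⟨L, hL⟩ := hpack t hb
      exact hall t L hb hL ▸ hL.norm
    · intro c hc
      refine hNK (Sylow.smul_eq_iff_mem_normalizer.1 ?_)
      by_contra hne
      refine hb ⟨ht.1.1, ht2, c • S, hne, ?_⟩
      rw [Sylow.coe_subgroup_smul]
      exact ⟨t, ht.1.1, show c * t * c⁻¹ = t by rw [mem_centralizer_singleton_iff.1 hc, mul_inv_cancel_right]⟩
  rw [htop, top_le_iff] at hle
  haveI : K.Normal := normalizer_eq_top_iff.1 hle
  rcases IsSimpleGroup.eq_bot_or_eq_top_of_normal K inferInstance with e | e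
  · exact comp_ne_bot hK.comp e
  · have hzc : z₀ ∈ center G := mem_center_iff.2 fun g =>
      mem_centralizer_singleton_iff.1 (hK.comp.1 (e.ge (mem_top g)))
    rcases IsSimpleGroup.eq_bot_or_eq_top_of_normal (center G) inferInstance with e' | e'
    · rw [e', mem_bot] at hzc
      have := hz₀.2.1
      rw [hzc, orderOf_one] at this
      exact absurd this (by decide)
    · exact hna ⟨⟨fun a b => mem_center_iff.1 (e'.ge (mem_top b)) a⟩⟩

end simple

/-- A simple group with central Sylow 2-intersections and non-abelian Sylow 2-subgroups has a strongly embedded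
subgroup. -/
theorem exists_embedded (elem : ElemProp.{u}) (G : Type u) [Group G] [Finite G] [IsSimpleGroup G]
    (hna : ¬ IsMulCommutative G) (hG : IsCI G) (S : Sylow 2 G) (hS : ¬ IsMulCommutative ↥(S : Subgroup G)) :
    ∃ H : Subgroup G, Cfsg.IsStronglyEmbedded H := by
  suffices h : ∀ (n : ℕ) (X : Type u) [Group X] [Finite X] [IsSimpleGroup X], Nat.card X = n → ¬ IsMulCommutative X →
      IsCI X → ∀ P : Sylow 2 X, ¬ IsMulCommutative ↥(P : Subgroup X) → ∃ H : Subgroup X, Cfsg.IsStronglyEmbedded H from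
    h _ G rfl hna hG S hS
  intro n
  induction n using Nat.strong_induction_on with
  | _ n IH =>
    intro X _ _ _ hX hna hX' P hP
    exact exists_embedded_step hna hX' P hP elem fun Y _ _ _ hY => IH _ (hX ▸ hY) Y rfl

end Cfsg.Lib.Walter.CI
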