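import Cfsg.Agent.Walter.CI.Basic

/-!
The elements of order two in the centre of `S`, and the averaging map of an odd group of automorphisms.
-/

set_option autoImplicit false
set_option linter.unusedSectionVars false
set_option linter.style.haveILetI false

namespace Cfsg.Lib.Walter.CI

open Subgroup

universe u

variable {G : Type u} [Group G] [Finite G]

/-- The elements of order at most two of the centre of `S`. -/
def Wz (S : Sylow 2 G) : Subgroup G where
  carrier := {x | x ∈ Zc S ∧ x * x = 1}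
  one_mem' := ⟨one_mem _, one_mul 1⟩
  mul_mem' {a b} ha hb := ⟨mul_mem ha.1 hb.1, by
    have h : Commute a b := (mem_Zc.1 hb.1).2 a ha.1.1
    calc a * b * (a * b) = a * (b * a) * b := by group
      _ = a * (a * b) * b := by rw [h.eq]
      _ = (a * a) * (b * b) := by group
      _ = 1 := by rw [ha.2, hb.2, mul_one]⟩
  inv_mem' {a} ha := ⟨inv_mem ha.1, by rw [← mul_inv_rev, ha.2, inv_one]⟩

theorem mem_Wz {S : Sylow 2 G} {x : G} : x ∈ Wz S ↔ x ∈ Zc S ∧ x * x = 1 := Iff.rfl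

theorem Wz_le (S : Sylow 2 G) : Wz S ≤ (S : Subgroup G) := fun _ h => h.1.1

theorem Wz_conj (S : Sylow 2 G) {n : G} (hn : n ∈ normalizer ((S : Subgroup G) : Set G)) {x : G} (hx : x ∈ Wz S) :
    n * x * n⁻¹ ∈ Wz S := by
  refine mem_Wz.2 ⟨mem_Zc.2 ⟨(mem_normalizer_iff.1 hn x).1 hx.1.1, fun s hs => ?_⟩, ?_⟩
  · have h1 := (mem_Zc.1 hx.1).2 _ ((mem_normalizer_iff''.1 hn s).1 hs)
    calc s * (n * x * n⁻¹) = n * (n⁻¹ * s * n * x) * n⁻¹ := by group
      _ = n * (x * (n⁻¹ * s * n)) * n⁻¹ := by rw [h1]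
      _ = n * x * n⁻¹ * s := by group
  · rw [show n * x * n⁻¹ * (n * x * n⁻¹) = n * (x * x) * n⁻¹ by group, hx.2, mul_one, mul_inv_cancel]

theorem Wz_normal (S : Sylow 2 G) : normalizer ((S : Subgroup G) : Set G) ≤ normalizer (Wz S : Set G) :=
  fun _ hn => mem_normalizer_fintype fun _ hx => Wz_conj S hn hx

theorem exists_average (S : Sylow 2 G) (N : Subgroup G) (hN : N ≤ normalizer ((S : Subgroup G) : Set G)) :
    ∃ φ : ↥(Wz S) →* ↥(Wz S),
      (∀ n ∈ N, ∀ w : ↥(Wz S), n * (φ w : G) * n⁻¹ = φ w) ∧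
      (∀ n ∈ N, ∀ w v : ↥(Wz S), (v : G) = n * (w : G) * n⁻¹ → φ v = φ w) ∧
      (∀ w : ↥(Wz S), (∀ n ∈ N, n * (w : G) * n⁻¹ = w) → φ w = w) ∧
      (∀ U : Subgroup G, ∀ w : ↥(Wz S), (∀ n ∈ N, (w : G)⁻¹ * (n * (w : G) * n⁻¹) ∈ U) →
        (w : G)⁻¹ * (φ w : G) ∈ U) := by
  classical
  haveI : Fact (Nat.Prime 2) := ⟨Nat.prime_two⟩
  haveI hWc : IsMulCommutative ↥(Wz S) :=
    ⟨⟨fun a b => Subtype.ext ((mem_Zc.1 b.2.1).2 a a.2.1.1)⟩⟩
  letI : CommGroup ↥(Wz S) := { (inferInstance : Group ↥(Wz S)) with mul_comm := fun a b => mul_comm' a b }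
  have hNW : N ≤ normalizer (Wz S : Set G) := hN.trans (Wz_normal S)
  set f := (Wz S).normalizerMonoidHom.comp (inclusion hNW) with hf
  haveI : Finite (MulAut ↥(Wz S)) := Finite.of_injective (fun a : MulAut ↥(Wz S) => (a : ↥(Wz S) → ↥(Wz S)))
    fun a b h => MulEquiv.ext (congrFun h)
  haveI := Fintype.ofFinite f.range
  have hodd : Odd (Nat.card f.range) := by
    rw [← Nat.not_even_iff_odd, even_iff_two_dvd]
    intro h2
    set g := (Wz S).normalizerMonoidHom.comp (inclusion (Wz_normal S)) with hg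
    have hle : f.range ≤ g.range := by
      rintro _ ⟨n, rfl⟩
      exact ⟨⟨n, hN n.2⟩, rfl⟩
    have h3 := h2.trans (card_dvd_of_le hle)
    rw [← Nat.card_congr (QuotientGroup.quotientKerEquivRange g).toEquiv, ← index_eq_card] at h3
    refine (S.subtype le_normalizer).not_dvd_index (h3.trans (index_dvd_of_le ?_))
    intro s hs
    rw [MonoidHom.mem_ker]
    refine MulEquiv.ext fun w => Subtype.ext ?_
    show (s : G) * w * (s : G)⁻¹ = w
    rw [(mem_Zc.1 w.2.1).2 s hs, mul_inv_cancel_right]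
  let φ : ↥(Wz S) →* ↥(Wz S) := MonoidHom.mk' (fun w => ∏ a : f.range, (a : MulAut ↥(Wz S)) w)
    fun a b => by simp only [map_mul, Finset.prod_mul_distrib]
  have hact : ∀ (n : G) (hn : n ∈ N) (w : ↥(Wz S)), ((f ⟨n, hn⟩ w : ↥(Wz S)) : G) = n * w * n⁻¹ := fun n hn w => rfl
  have hperm : ∀ (n : G) (hn : n ∈ N) (w : ↥(Wz S)), φ (f ⟨n, hn⟩ w) = φ w := fun n hn w =>
    Fintype.prod_equiv (Equiv.mulRight (⟨f ⟨n, hn⟩, _, rfl⟩ : f.range)) _ _ fun a => rfl
  refine ⟨φ, fun n hn w => ?_, fun n hn w v hv => ?_, fun w hw => ?_, fun U w hU => ?_⟩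
  · rw [← hact n hn (φ w)]
    refine congrArg Subtype.val ?_
    show f ⟨n, hn⟩ (∏ a : f.range, (a : MulAut ↥(Wz S)) w) = _
    rw [map_prod]
    exact Fintype.prod_equiv (Equiv.mulLeft (⟨f ⟨n, hn⟩, _, rfl⟩ : f.range)) _ _ fun a => rfl
  · rw [← hperm n hn w]
    exact congrArg φ (Subtype.ext hv)
  · have hfix : ∀ a : f.range, (a : MulAut ↥(Wz S)) w = w := by
      rintro ⟨_, n, rfl⟩
      exact Subtype.ext (hw n n.2)
    show ∏ a : f.range, (a : MulAut ↥(Wz S)) w = w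
    simp only [hfix, Finset.prod_const, Finset.card_univ]
    rw [← Nat.card_eq_fintype_card]
    obtain ⟨m, hm⟩ := hodd
    rw [hm, pow_succ, pow_mul, pow_two, show w * w = 1 from Subtype.ext w.2.2, one_pow, one_mul]
  · have hprod : ∏ a : f.range, (w⁻¹ * (a : MulAut ↥(Wz S)) w) ∈ U.subgroupOf (Wz S) :=
      Subgroup.prod_mem _ fun a _ => by
        obtain ⟨a, n, rfl⟩ := a
        exact hU n n.2
    rw [Finset.prod_mul_distrib, Finset.prod_const, Finset.card_univ, ← Nat.card_eq_fintype_card] at hprod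
    obtain ⟨m, hm⟩ := hodd
    rw [hm, pow_succ, pow_mul, pow_two, show w⁻¹ * w⁻¹ = 1 from Subtype.ext (inv_mem w.2).2, one_pow, one_mul] at hprod
    exact hprod

end Cfsg.Lib.Walter.CI
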