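import Cfsg.Agent.Walter.CI.Pack
import Cfsg.Agent.Walter.CI.Average
import Cfsg.Agent.BenderSE.Dependents.CoverKill
import Cfsg.Agent.FiTypes.Basics

/-!
If some central involution of `S` acts nontrivially on the component then the component has odd centre.
-/

set_option autoImplicit false
set_option linter.unusedSectionVars false
set_option linter.style.haveILetI false

namespace Cfsg.Lib.Walter.CI

open Subgroup
open scoped Pointwise

universe u

variable {G : Type u} [Group G] [Finite G]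

theorem embedded_equiv {A B : Type u} [Group A] [Finite A] [Group B] [Finite B] (e : A ≃* B) {H : Subgroup A}
    (hH : Cfsg.IsStronglyEmbedded H) : Cfsg.IsStronglyEmbedded (H.map e.toMonoidHom) := by
  have hmem : ∀ x : A, e x ∈ H.map e.toMonoidHom ↔ x ∈ H :=
    fun x => ⟨fun ⟨y, hy, hyx⟩ => e.injective hyx ▸ hy, fun h => mem_map_of_mem _ h⟩
  refine ⟨fun h => hH.1 ((Subgroup.eq_top_iff' H).2 fun x => (hmem x).1 (h ▸ mem_top _)), ?_, fun g hg => ?_⟩
  · rw [card_map_of_injective e.injective]; exact hH.2.1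
  · obtain ⟨g, rfl⟩ := e.surjective g
    have h := hH.2.2 g fun h => hg (mem_map_of_mem _ h)
    rw [← card_map_of_injective (f := e.toMonoidHom) e.injective] at h
    refine h.of_dvd_nat (card_dvd_of_le fun x hx => ?_)
    obtain ⟨h1, h2⟩ := mem_inf.1 hx
    obtain ⟨y, hy, rfl⟩ := h1
    rw [Cfsg.Lib.StrongEmb.mem_conj_iff] at h2
    exact mem_map_of_mem _ (mem_inf.2 ⟨hy, Cfsg.Lib.StrongEmb.mem_conj_iff.2 ((hmem _).1 (by
      rwa [map_mul, map_mul, map_inv]))⟩)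

theorem inf_centralizer_eq_bot {S : Sylow 2 G} {z : G} {K : Subgroup G} (P : Pack S z K)
    (hW : ¬ Wz S ≤ centralizer (K : Set G)) :
    (S : Subgroup G) ⊓ K ⊓ centralizer (K : Set G) = ⊥ := by
  haveI : Fact (Nat.Prime 2) := ⟨Nat.prime_two⟩
  have hq := comp_qs P.comp
  haveI := hq.2
  -- the generators
  set gens : Set G := {r | ∃ w ∈ Wz S, ∃ n ∈ K, n ∈ normalizer ((S : Subgroup G) : Set G) ∧
    r = w⁻¹ * (n * w * n⁻¹)} with hgens
  set U := closure gens with hU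
  have hSK : (S : Subgroup G) ≤ normalizer (K : Set G) := fun s hs =>
    P.norm (mem_centralizer_singleton_iff.2 ((mem_Zc.1 P.zc).2 s hs))
  have hUW : U ≤ Wz S := (closure_le _).2 fun r ⟨w, hw, n, hn, hnS, e⟩ => e ▸ mul_mem (inv_mem hw) (Wz_conj S hnS hw)
  have hUK : U ≤ K := (closure_le _).2 fun r ⟨w, hw, n, hn, hnS, e⟩ => by
    rw [e, show w⁻¹ * (n * w * n⁻¹) = w⁻¹ * n * w * n⁻¹ by group]
    exact mul_mem ((mem_normalizer_iff''.1 (hSK (Wz_le S hw)) n).1 hn) (inv_mem hn)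
  have hUinv : ∀ m ∈ K, m ∈ normalizer ((S : Subgroup G) : Set G) → ∀ r ∈ U, m * r * m⁻¹ ∈ U := by
    intro m hm hmS r hr
    have hmap : U.map (MulAut.conj m).toMonoidHom ≤ U := by
      rw [hU, MonoidHom.map_closure, closure_le]
      rintro _ ⟨_, ⟨w, hw, n, hn, hnS, rfl⟩, rfl⟩
      refine subset_closure ⟨m * w * m⁻¹, Wz_conj S hmS hw, m * n * m⁻¹, mul_mem (mul_mem hm hn) (inv_mem hm),
        mul_mem (mul_mem hmS hnS) (inv_mem hmS), ?_⟩
      show m * (w⁻¹ * (n * w * n⁻¹)) * m⁻¹ = _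
      group
    exact hmap (mem_map_of_mem _ hr)
  -- no fixed point in `U`
  have havoid : ∀ r ∈ U, r ∈ centralizer (K : Set G) → r = 1 := by
    intro r hr hrC
    obtain ⟨φ, -, hperm, hfix, -⟩ := exists_average S (K ⊓ normalizer ((S : Subgroup G) : Set G)) inf_le_right
    have h1 := hfix ⟨r, hUW hr⟩ fun n hn => by
      show n * r * n⁻¹ = r
      rw [mem_centralizer_iff.1 hrC n hn.1, mul_inv_cancel_right]
    have hle : U.subgroupOf (Wz S) ≤ φ.ker := by
      have : U ≤ φ.ker.map (Wz S).subtype := (closure_le _).2 fun x ⟨w, hw, n, hn, hnS, e⟩ => by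
        refine ⟨(⟨w, hw⟩ : ↥(Wz S))⁻¹ * ⟨n * w * n⁻¹, Wz_conj S hnS hw⟩, ?_, e.symm⟩
        rw [SetLike.mem_coe, MonoidHom.mem_ker, map_mul, map_inv,
          hperm n (mem_inf.2 ⟨hn, hnS⟩) ⟨w, hw⟩ ⟨n * w * n⁻¹, Wz_conj S hnS hw⟩ rfl, inv_mul_cancel]
      intro x hx
      obtain ⟨y, hy, hyx⟩ := this hx
      rwa [← (Wz S).subtype_injective hyx]
    have h2 : φ ⟨r, hUW hr⟩ = 1 := hle (show (⟨r, hUW hr⟩ : ↥(Wz S)) ∈ U.subgroupOf (Wz S) from hr)
    rw [h2] at h1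
    exact (congrArg Subtype.val h1).symm
  -- an element of `U` outside the centre
  obtain ⟨w₀, hw₀, hw₀C⟩ := SetLike.not_le_iff_exists.1 hW
  obtain ⟨q₀, hq₀, d₀, hd₀, hw₀e⟩ := P.decomp w₀ (Wz_le S hw₀)
  obtain ⟨hq₀S, hq₀K⟩ := mem_inf.1 hq₀
  obtain ⟨hd₀S, hd₀C⟩ := mem_inf.1 hd₀
  have hq₀C : q₀ ∉ centralizer (K : Set G) := fun h => hw₀C (hw₀e ▸ mul_mem h hd₀C)
  have hq₀2 : q₀ * q₀ ∈ centralizer (K : Set G) := by
    have hcm : q₀ * d₀ = d₀ * q₀ := mem_centralizer_iff.1 hd₀C q₀ hq₀K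
    have h1 : q₀ * d₀ * (q₀ * d₀) = 1 := hw₀e ▸ hw₀.2
    have h2 : q₀ * q₀ * (d₀ * d₀) = 1 := by
      rw [← h1]
      calc q₀ * q₀ * (d₀ * d₀) = q₀ * (q₀ * d₀) * d₀ := by group
        _ = q₀ * (d₀ * q₀) * d₀ := by rw [hcm]
        _ = _ := by group
    rw [eq_inv_of_mul_eq_one_left h2]
    exact inv_mem (mul_mem hd₀C hd₀C)
  obtain ⟨n₀, hn₀K, hn₀S, hn₀⟩ := P.moved q₀ hq₀ hq₀C hq₀2
  set r₁ := w₀⁻¹ * (n₀ * w₀ * n₀⁻¹) with hr₁
  have hr₁U : r₁ ∈ U := subset_closure ⟨w₀, hw₀, n₀, hn₀K, hn₀S, rfl⟩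
  have hr₁C : r₁ ∉ centralizer (K : Set G) := by
    intro h
    have hd : n₀ * d₀ * n₀⁻¹ = d₀ := by rw [mem_centralizer_iff.1 hd₀C n₀ hn₀K, mul_inv_cancel_right]
    have hd' : d₀⁻¹ * (n₀ * q₀ * n₀⁻¹) * d₀ = n₀ * q₀ * n₀⁻¹ := by
      rw [mul_assoc, mem_centralizer_iff.1 hd₀C _ (mul_mem (mul_mem hn₀K hq₀K) (inv_mem hn₀K)), inv_mul_cancel_left]
    have e : r₁ = d₀⁻¹ * q₀⁻¹ * (n₀ * q₀ * n₀⁻¹) * d₀ := by
      rw [hr₁, hw₀e, show n₀ * (q₀ * d₀) * n₀⁻¹ = n₀ * q₀ * n₀⁻¹ * (n₀ * d₀ * n₀⁻¹) by group, hd]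
      group
    have e2 : r₁ = q₀⁻¹ * (n₀ * q₀ * n₀⁻¹) := by
      rw [e]
      have hd0 : d₀⁻¹ * q₀⁻¹ = q₀⁻¹ * d₀⁻¹ := by
        rw [← mul_inv_rev, ← mul_inv_rev, mem_centralizer_iff.1 hd₀C q₀ hq₀K]
      rw [hd0, mul_assoc (q₀⁻¹) d₀⁻¹, mul_assoc q₀⁻¹, hd']
    have hk : n₀ * q₀ * n₀⁻¹ * q₀⁻¹ = q₀ * r₁ * q₀⁻¹ := by rw [e2]; group
    rw [mem_centralizer_iff.1 h q₀ hq₀K, mul_inv_cancel_right] at hk
    exact hn₀ (hk ▸ h)
  have hr₁2 : r₁ * r₁ = 1 := (hUW hr₁U).2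
  -- the quotient by the odd part of the centre
  obtain ⟨H, hH, hN⟩ := P.quot
  set O := (Cfsg.pPrimeCore 2 ↥(center ↥K)).map (center ↥K).subtype with hO
  have hOc : O ≤ center ↥K := map_subtype_le _
  haveI : O.Normal := ⟨fun x hx g => by rw [mem_center_iff.1 (hOc hx) g, mul_inv_cancel_right]; exact hx⟩
  have hOtop : O ≠ ⊤ := fun e => Cfsg.Lib.Components.qs_center_ne_top hq (top_le_iff.1 (e ▸ hOc))
  have hOodd : Odd (Nat.card O) := by
    rw [hO, card_map_of_injective (center ↥K).subtype_injective]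
    exact Cfsg.Lib.ZStarApps.odd_card_pPrimeCore
  have hcenter2 : ∀ c ∈ center ↥K, ∃ k : ℕ, c ^ 2 ^ k ∈ O := by
    intro c hc
    obtain ⟨k, m, hm, hkm⟩ := Nat.exists_eq_two_pow_mul_odd (orderOf_pos c).ne'
    refine ⟨k, ⟨(⟨c, hc⟩ : center ↥K) ^ 2 ^ k, ?_, by simp⟩⟩
    haveI : (zpowers ((⟨c, hc⟩ : center ↥K) ^ 2 ^ k)).Normal := ⟨fun x hx g => by
      rw [show g * x * g⁻¹ = x from by
        rw [show g * x = x * g from Subtype.ext (mem_center_iff.1 x.2 g), mul_inv_cancel_right]]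
      exact hx⟩
    refine Cfsg.Lib.Components.le_pPrimeCore ?_ (mem_zpowers _)
    rw [Nat.card_zpowers, orderOf_pow, Subgroup.orderOf_mk, hkm, Nat.gcd_mul_right_left,
      Nat.mul_div_cancel_left _ (Nat.two_pow_pos k)]
    exact Nat.coprime_two_right.2 hm
  set σ := QuotientGroup.mk' O with hσ
  have hσs : Function.Surjective σ := QuotientGroup.mk'_surjective O
  have hcent : center (↥K ⧸ O) = (center ↥K).map σ := Cfsg.Lib.CpQuot.center_quot hq hOtop
  let f : ↥K ⧸ O →* ↥K ⧸ center ↥K := QuotientGroup.map O (center ↥K) (MonoidHom.id _) fun x hx => hOc hx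
  have hf : Function.Surjective f := fun y => by
    obtain ⟨x, rfl⟩ := QuotientGroup.mk'_surjective (center ↥K) y
    exact ⟨σ x, rfl⟩
  have hna : ¬ IsMulCommutative (↥K ⧸ center ↥K) := Cfsg.Lib.CpQuot.not_commutative hq
  have hZ : center (↥K ⧸ center ↥K) = ⊥ :=
    (IsSimpleGroup.eq_bot_or_eq_top_of_normal _ inferInstance).resolve_right fun e => hna
      ⟨⟨fun a b => mem_center_iff.1 (e.ge (mem_top b)) a⟩⟩
  obtain ⟨i, hi⟩ := Cfsg.Lib.FiTypes.center_quotient_map f hf (by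
    intro y hy
    obtain ⟨x, rfl⟩ := hσs y
    rw [hcent]
    exact mem_map_of_mem σ ((QuotientGroup.eq_one_iff x).1 hy)) hZ
  set π := QuotientGroup.mk' (center ↥K) with hπ
  set HX := (H.comap π).map σ with hHX
  have hmemHX : ∀ x : ↥K, σ x ∈ HX ↔ π x ∈ H := by
    intro x
    refine ⟨fun ⟨y, hy, hyx⟩ => ?_, fun h => mem_map_of_mem σ h⟩
    have := congrArg f hyx
    exact (show π y = π x from this) ▸ hy
  have hzle : center (↥K ⧸ O) ≤ HX := by
    rw [hcent]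
    exact map_mono fun x hx => mem_comap.2 (by rw [show π x = 1 from (QuotientGroup.eq_one_iff x).2 hx]; exact one_mem H)
  set R := (U.subgroupOf K).map σ with hR
  have C : Cfsg.Lib.BenderSE.CritDep.CoverData HX R :=
    { qs := Cfsg.Lib.CpQuot.isQuasisimple_quot hq hOtop
      two := by
        rintro ⟨y, hy⟩
        rw [hcent] at hy
        obtain ⟨c, hc, rfl⟩ := hy
        obtain ⟨k, hk⟩ := hcenter2 c hc
        exact ⟨k, Subtype.ext (by
          show σ c ^ 2 ^ k = 1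
          rw [← map_pow]; exact (QuotientGroup.eq_one_iff _).2 hk)⟩
      se := by
        have he : HX.map (QuotientGroup.mk' (center (↥K ⧸ O))) = H.map i.symm.toMonoidHom := by
          ext y
          obtain ⟨y, rfl⟩ := QuotientGroup.mk'_surjective _ y
          obtain ⟨x, rfl⟩ := hσs y
          constructor
          · rintro ⟨_, ⟨v, hv, rfl⟩, hvx⟩
            refine ⟨π v, hv, ?_⟩
            rw [← hvx]
            show i.symm (π v) = QuotientGroup.mk (σ v)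
            rw [MulEquiv.symm_apply_eq, hi]
            rfl
          · rintro ⟨b, hb, hbx⟩
            have : b = π x := by
              have := congrArg i hbx
              rw [MulEquiv.coe_toMonoidHom, MulEquiv.apply_symm_apply, QuotientGroup.mk'_apply, hi] at this
              exact this
            exact mem_map_of_mem _ ((hmemHX x).2 (this ▸ hb))
        rw [he]
        exact embedded_equiv i.symm hH
      zle := hzle
      rle := by
        rintro _ ⟨r, hr, rfl⟩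
        refine (hmemHX r).2 ?_
        have hrU : (r : G) ∈ U := hr
        exact (hN r).2 (le_normalizer (Wz_le S (hUW hrU)))
      norm := by
        rintro _ ⟨x, hx, rfl⟩
        refine mem_normalizer_fintype ?_
        rintro _ ⟨r, hr, rfl⟩
        rw [← map_inv, ← map_mul, ← map_mul]
        exact mem_map_of_mem σ (mem_subgroupOf.2 (hUinv x x.2 ((hN x).1 hx) r hr))
      avoid := by
        rintro _ hc ⟨r, hr, rfl⟩ -
        rw [hcent] at hc
        obtain ⟨v, hv, hvr⟩ := hc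
        have : r ∈ center ↥K := by
          have h2 := hOc (QuotientGroup.eq.1 hvr)
          have := mul_mem hv h2
          rwa [mul_inv_cancel_left] at this
        have : r = 1 := Subtype.ext (havoid r hr ((mem_center_coe r).1 this))
        rw [this, map_one]
      cover := by
        rintro _ ⟨x, hx, rfl⟩ hx2
        have hπx : orderOf (π x) = 2 := by
          have h1 := MulEquiv.orderOf_eq i (QuotientGroup.mk (σ x))
          rw [hi] at h1
          exact h1.trans hx2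
        obtain ⟨q, hq', hxq⟩ := P.cover H hH (fun x h => (hN x).1 h) x hx hπx
        obtain ⟨hqS, hqK⟩ := mem_inf.1 hq'
        have hpq : π x = π ⟨q, hqK⟩ := by
          refine QuotientGroup.eq.2 ((mem_center_coe (x⁻¹ * ⟨q, hqK⟩)).2 ?_)
          simpa using hxq
        have hqC : q ∉ centralizer (K : Set G) := fun h => by
          rw [hpq, show π ⟨q, hqK⟩ = 1 from (QuotientGroup.eq_one_iff _).2 ((mem_center_coe ⟨q, hqK⟩).2 h),
            orderOf_one] at hπx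
          exact absurd hπx (by decide)
        have hq2 : q * q ∈ centralizer (K : Set G) := by
          have h1 : π ⟨q, hqK⟩ ^ 2 = 1 := by rw [← hpq, ← hπx, pow_orderOf_eq_one]
          rw [pow_two, ← map_mul] at h1
          exact (mem_center_coe (⟨q, hqK⟩ * ⟨q, hqK⟩)).1 ((QuotientGroup.ker_mk' (center ↥K)).le h1)
        obtain ⟨n, hnK, hnS, hn⟩ := P.fuse r₁ (mem_inf.2 ⟨Wz_le S (hUW hr₁U), hUK hr₁U⟩) q hq' hr₁C
          (hr₁2 ▸ one_mem _) hqC hq2
        set r := n * r₁ * n⁻¹ with hr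
        have hrU : r ∈ U := hUinv n hnK hnS r₁ hr₁U
        refine ⟨σ ⟨r, hUK hrU⟩, mem_map_of_mem σ (mem_subgroupOf.2 hrU), ?_⟩
        apply i.injective
        show i (QuotientGroup.mk (σ ⟨r, hUK hrU⟩)) = i (QuotientGroup.mk (σ x))
        rw [hi, hi]
        show π ⟨r, hUK hrU⟩ = π x
        rw [hpq]
        refine QuotientGroup.eq.2 ((mem_center_coe ((⟨r, hUK hrU⟩ : ↥K)⁻¹ * ⟨q, hqK⟩)).2 ?_)
        have h2 : r * q⁻¹ ∈ centralizer (K : Set G) := hn
        show r⁻¹ * q ∈ centralizer (K : Set G)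
        rw [show r⁻¹ * q = r⁻¹ * (r * q⁻¹)⁻¹ * r by group,
          mem_centralizer_iff.1 (inv_mem h2) r⁻¹ (inv_mem (hUK hrU)), inv_mul_cancel_right]
        exact inv_mem h2 }
  have hbot := C.center_eq_bot Cfsg.Lib.BenderSE.regProp
  rw [hcent, Subgroup.map_eq_bot_iff, hσ, QuotientGroup.ker_mk'] at hbot
  refine (eq_bot_iff_forall _).2 fun x hx => ?_
  obtain ⟨hxSK, hxC⟩ := mem_inf.1 hx
  obtain ⟨hxS, hxK⟩ := mem_inf.1 hxSK
  have hxO : (⟨x, hxK⟩ : ↥K) ∈ O := hbot ((mem_center_coe _).2 hxC)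
  have h1 := Subgroup.orderOf_dvd_natCard O hxO
  rw [Subgroup.orderOf_mk] at h1
  obtain ⟨k, hk⟩ := S.2.exists_orderOf_eq_pow ⟨x, hxS⟩
  rw [Subgroup.orderOf_mk] at hk
  rw [← orderOf_eq_one_iff]
  exact Nat.eq_one_of_dvd_coprimes ((Nat.coprime_two_left.2 hOodd).pow_left k) (hk ▸ dvd_rfl) h1

end Cfsg.Lib.Walter.CI
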