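import Cfsg.Agent.BenderSE.Final
import Cfsg.Agent.BenderSE.Dependents.Rows

/-!
A simple group with a strongly embedded subgroup, relative to a given Sylow 2-subgroup.
-/

set_option autoImplicit false
set_option linter.unusedSectionVars false
set_option linter.style.haveILetI false

namespace Cfsg.Lib.Walter.CI

open Subgroup
open scoped Pointwise

universe u

variable {X : Type u} [Group X] [Finite X] [IsSimpleGroup X]

/-- The data used from the classification of groups with a strongly embedded subgroup. -/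
structure Pair (H : Subgroup X) (P : Sylow 2 X) : Prop where
  se : Cfsg.IsStronglyEmbedded H
  solv : Group.IsSolvable H
  norm : normalizer ((P : Subgroup X) : Set X) = H
  trans : ∀ g₁ g₂ : X, g₁ ∉ H → g₂ ∉ H → ∃ u ∈ (P : Subgroup X), g₂⁻¹ * (u * g₁) ∈ H
  qinvol : ∀ i : X, orderOf i = 2 → i ∈ H → i ∈ (P : Subgroup X) ∧ ∀ x ∈ (P : Subgroup X), i * x = x * i
  moves : ∀ i ∈ (P : Subgroup X), orderOf i = 2 → ∃ h ∈ H, h * i * h⁻¹ ≠ i
  fuse : ∀ i ∈ (P : Subgroup X), ∀ j ∈ (P : Subgroup X), orderOf i = 2 → orderOf j = 2 → ∃ h ∈ H, h * i * h⁻¹ = j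

theorem exists_pair (hna : ¬ IsMulCommutative X) (hH : ∃ H : Subgroup X, Cfsg.IsStronglyEmbedded H)
    (P : Sylow 2 X) : ∃ H : Subgroup X, Pair H P := by
  haveI : Fact (Nat.Prime 2) := ⟨Nat.prime_two⟩
  obtain ⟨H₀, hH₀⟩ := hH
  obtain ⟨L₀, Q₀, F₀⟩ := Cfsg.Lib.BenderSE.exists_frame Cfsg.Lib.BenderSE.regProp
    ⟨hH₀, Cfsg.Lib.BenderSE.normalCore_eq_bot_of_simple hH₀, Cfsg.Lib.BenderSE.comm_of_nonab hH₀ hna⟩
  obtain ⟨S₀, hS₀⟩ := F₀.sylow
  obtain ⟨c, hc⟩ := MulAction.exists_smul_eq X S₀ P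
  set H := H₀.map (MulAut.conj c).toMonoidHom with hHdef
  have hmem : ∀ x : X, x ∈ H ↔ c⁻¹ * x * c ∈ H₀ := fun x => Cfsg.Lib.StrongEmb.mem_conj_iff
  have hSE : Cfsg.IsStronglyEmbedded H := by
    refine ⟨fun h => hH₀.1 ?_, ?_, fun g hg => ?_⟩
    · refine (Subgroup.eq_top_iff' H₀).2 fun x => ?_
      have := (hmem (c * x * c⁻¹)).1 (h ▸ mem_top _)
      rwa [show c⁻¹ * (c * x * c⁻¹) * c = x by group] at this
    · rw [hHdef, card_map_of_injective (MulAut.conj c).injective]; exact hH₀.2.1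
    · have hg' : c⁻¹ * g * c ∉ H₀ := fun h => hg ((hmem g).2 h)
      have := hH₀.2.2 _ hg'
      rw [← card_map_of_injective (f := (MulAut.conj c).toMonoidHom) (MulAut.conj c).injective] at this
      refine this.of_dvd_nat (card_dvd_of_le ?_)
      intro x hx
      obtain ⟨hx1, hx2⟩ := mem_inf.1 hx
      rw [Cfsg.Lib.StrongEmb.mem_conj_iff] at hx2
      rw [Cfsg.Lib.StrongEmb.mem_conj_iff]
      refine ⟨(hmem x).1 hx1, Cfsg.Lib.StrongEmb.mem_conj_iff.2 ?_⟩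
      have := (hmem _).1 hx2
      rwa [show (c⁻¹ * g * c)⁻¹ * (c⁻¹ * x * c) * (c⁻¹ * g * c) = c⁻¹ * (g⁻¹ * x * g) * c by group]
  obtain ⟨L, Q, F⟩ := Cfsg.Lib.BenderSE.exists_frame Cfsg.Lib.BenderSE.regProp
    ⟨hSE, Cfsg.Lib.BenderSE.normalCore_eq_bot_of_simple hSE, Cfsg.Lib.BenderSE.comm_of_nonab hSE hna⟩
  have hPH : (P : Subgroup X) ≤ H := by
    intro x hx
    rw [← hc, Sylow.coe_subgroup_smul] at hx
    obtain ⟨y, hy, rfl⟩ := hx
    exact mem_map_of_mem _ (F₀.qle (hS₀ ▸ hy))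
  obtain ⟨T, hT⟩ := F.sylow
  have hPT : (P : Subgroup X) = Q := by
    have hp := P.isPGroup'.to_sup_of_normal_right' F.q2 (hPH.trans F.qn)
    have h1 : (P : Subgroup X) ⊔ Q = T := T.3 hp (hT.symm ▸ le_sup_right)
    exact (P.3 T.isPGroup' (le_sup_left.trans h1.le)).symm.trans hT
  have hN : normalizer ((P : Subgroup X) : Set X) = H := by
    refine le_antisymm (fun g hg => ?_) (hPT ▸ F.qn)
    obtain ⟨i, hiH, hi⟩ := Cfsg.Lib.StrongEmb.exists_involution_of_even hSE.2.1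
    exact Cfsg.Lib.StrongEmb.conj_eq hSE hi hiH
      (hPH ((mem_normalizer_iff.1 hg i).1 (hPT.symm ▸ (F.qinvol i hi hiH).1)))
  have hfuse : ∀ i ∈ (P : Subgroup X), ∀ j ∈ (P : Subgroup X), orderOf i = 2 → orderOf j = 2 →
      ∃ h ∈ H, h * i * h⁻¹ = j := by
    intro i hi j hj hi2 hj2
    obtain ⟨h, hh⟩ := isConj_iff.1 (Cfsg.Lib.StrongEmb.all_conj hSE hi2 hj2)
    exact ⟨h, Cfsg.Lib.StrongEmb.conj_eq hSE hi2 (hPH hi) (hh ▸ hPH hj), hh⟩
  refine ⟨H, hSE, F.solvable, hN, hPT ▸ F.trans, hPT ▸ F.qinvol, fun i hi hi2 => ?_, hfuse⟩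
  obtain ⟨k, e, hk, -, -, hI⟩ := F.qcard
  by_contra hall
  push Not at hall
  have hsub : Subsingleton {j : X // orderOf j = 2 ∧ j ∈ H} := ⟨fun a b => by
    have key : ∀ a : {j : X // orderOf j = 2 ∧ j ∈ H}, (a : X) = i := fun a => by
      obtain ⟨h, hh, he⟩ := hfuse i hi a.1 (hPT.symm ▸ (F.qinvol a.1 a.2.1 a.2.2).1) hi2 a.2.1
      exact he ▸ hall h hh
    exact Subtype.ext ((key a).trans (key b).symm)⟩
  have h1 := Finite.card_le_one_iff_subsingleton.2 hsub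
  have h4 : 2 ^ 2 ≤ 2 ^ k := Nat.pow_le_pow_right two_pos hk
  omega

end Cfsg.Lib.Walter.CI
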