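import Cfsg.Agent.GWFour.Consumers.DoubleCover
import Cfsg.Agent.Classical.Misc.SmallPSL
import Cfsg.Agent.S2086
import Cfsg.Agent.S2089
import Cfsg.Agent.S2111
import Cfsg.Agent.S2112

/-!
Perfect central extensions of the groups with a strongly embedded subgroup (row 3181).
-/

set_option autoImplicit false
set_option linter.unusedSectionVars false
set_option linter.style.haveILetI false

namespace Cfsg.Lib.Walter.CI

open Subgroup Matrix
open scoped MatrixGroups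

universe u v w x

theorem card_ker_dvd {Q : Type v} [Group Q] [Finite Q] {A : Type w} [CommGroup A] (hA : Cfsg.HasSchurMultiplier Q A)
    {Γ : Type x} [Group Γ] {σ : Γ →* Q} (hσ : Cfsg.IsStemExtension σ) : Nat.card σ.ker ∣ Nat.card A := by
  obtain ⟨e⟩ := (Cfsg.Lib.Schur.hasSchurMultiplier_iff (Cfsg.Lib.Schur.canon_surjective Q)).mp hA
  obtain ⟨f, hf⟩ := Cfsg.Lib.Schur.exists_surj hσ (Cfsg.Lib.Schur.canon_surjective Q)
  rw [Nat.card_congr e.toEquiv]
  exact Subgroup.card_dvd_of_surjective f hf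

theorem ker_equiv_comp {A : Type u} {B : Type v} {C : Type w} [Group A] [Group B] [Group C] (f : A →* B) (e : B ≃* C) :
    (e.toMonoidHom.comp f).ker = f.ker := Subgroup.ext fun x => e.map_eq_one_iff

variable {L : Type u} [Group L] [Finite L] (Z : Subgroup L) [Z.Normal]

theorem stem_of_iso (hZ : Z ≤ center L) (hperf : _root_.commutator L = ⊤) {Q : Type v} [Group Q] (e : L ⧸ Z ≃* Q) :
    Cfsg.IsStemExtension (e.toMonoidHom.comp (QuotientGroup.mk' Z)) ∧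
      (e.toMonoidHom.comp (QuotientGroup.mk' Z)).ker = Z := by
  have hk : (e.toMonoidHom.comp (QuotientGroup.mk' Z)).ker = Z := by
    rw [ker_equiv_comp, QuotientGroup.ker_mk']
  exact ⟨⟨e.surjective.comp (QuotientGroup.mk'_surjective _), hk.le.trans hZ, hperf ▸ le_top⟩, hk⟩

theorem card_dvd_of_iso (hZ : Z ≤ center L) (hperf : _root_.commutator L = ⊤) {Q : Type v} [Group Q] [Finite Q]
    (e : L ⧸ Z ≃* Q) {A : Type w} [CommGroup A] (hA : Cfsg.HasSchurMultiplier Q A) :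
    Nat.card Z ∣ Nat.card A := by
  obtain ⟨hs, hk⟩ := stem_of_iso Z hZ hperf e
  have := card_ker_dvd hA hs
  rwa [hk] at this

theorem card_dvd_of_cyclic (hZ : Z ≤ center L) (hperf : _root_.commutator L = ⊤) {Q : Type v} [Group Q] [Finite Q]
    (e : L ⧸ Z ≃* Q) {n : ℕ} (hA : Cfsg.HasCyclicSchurMultiplier Q n) : Nat.card Z ∣ n := by
  have := card_dvd_of_iso Z hZ hperf e hA
  rwa [Nat.card_congr Multiplicative.toAdd, Nat.card_zmod] at this

/-- a perfect double cover of a `PSL(2, 2ⁿ)` is `SL(2, 5)` -/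
theorem binary_cover (hZ : Z ≤ center L) (hperf : _root_.commutator L = ⊤) (hp : IsPGroup 2 Z) (hne : Z ≠ ⊥)
    {F : Type} [Field F] [Fintype F] {n : ℕ} (hn : 2 ≤ n) (hF : Fintype.card F = 2 ^ n)
    (e : L ⧸ Z ≃* ProjectiveSpecialLinearGroup (Fin 2) F) : Nonempty (L ≃* SL(2, ZMod 5)) := by
  haveI : Fact (Nat.Prime 2) := ⟨Nat.prime_two⟩
  haveI : Fact (Nat.Prime 5) := ⟨by norm_num⟩
  obtain ⟨j, hj⟩ := IsPGroup.iff_card.1 hp
  have hj0 : j ≠ 0 := fun h => hne (card_eq_one.1 (by rw [hj, h, pow_zero]))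
  rcases hn.eq_or_lt with rfl | h3
  · obtain ⟨f⟩ := Cfsg.Lib.Classical.SmallPSL.psl_four (F := F) (by rw [hF]; norm_num)
    obtain ⟨g⟩ := Cfsg.Lib.Classical.SmallPSL.psl_five (F := ZMod 5) (ZMod.card 5)
    have e5 := (e.trans f).trans g.symm
    have h := card_dvd_of_cyclic Z hZ hperf e5 (Cfsg.Agent.S2086.result (ZMod.card 5) 2 le_rfl (fun _ => by norm_num)
      (by simp))
    have h2 : Nat.card Z = 2 := by
      refine Nat.dvd_antisymm (h.trans (by norm_num)) ?_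
      rw [hj]
      exact dvd_pow_self 2 hj0
    exact Cfsg.Lib.GWFour.double_cover (by rw [ZMod.card]; decide) (by rw [ZMod.card]) (by rw [ZMod.card]; decide)
      Z hZ h2 hperf e5
  · exfalso
    have h8 : 8 ≤ 2 ^ n := le_of_eq_of_le (by norm_num) (Nat.pow_le_pow_right two_pos h3)
    have h9 : 2 ^ n ≠ 9 := fun h => by
      have : 2 ∣ 2 ^ n := dvd_pow_self 2 (by omega)
      omega
    have h := card_dvd_of_cyclic Z hZ hperf e (Cfsg.Agent.S2086.result hF 2 le_rfl (fun _ => by omega) (by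
      simp only [Set.mem_insert_iff, Set.mem_singleton_iff, Prod.mk.injEq]
      omega))
    have hodd : Odd (Nat.gcd 2 (2 ^ n - 1)) := by
      refine Odd.of_dvd_nat ?_ (Nat.gcd_dvd_right 2 _)
      exact Nat.Even.sub_odd (Nat.one_le_two_pow) (Nat.even_pow.2 ⟨even_two, by omega⟩) odd_one
    have h2 : (2 : ℕ) ∣ Nat.gcd 2 (2 ^ n - 1) := (dvd_pow_self 2 hj0).trans (hj ▸ h)
    exact Nat.not_even_iff_odd.2 hodd (even_iff_two_dvd.2 h2)

theorem suzuki_cover_large (hZ : Z ≤ center L) (hperf : _root_.commutator L = ⊤)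
    {F : Type} [Field F] [Fintype F] {m : ℕ} (hm : 2 ≤ m) (hF : Fintype.card F = 2 ^ (2 * m + 1))
    (e : L ⧸ Z ≃* ↥(Cfsg.Lie.Sz F (2 ^ (m + 1)))) : Z = ⊥ := by
  haveI : Finite ↥(Cfsg.Lie.Sz F (2 ^ (m + 1))) := Finite.of_equiv _ e.toEquiv
  exact card_eq_one.1 (Nat.dvd_one.1 (card_dvd_of_cyclic Z hZ hperf e (Cfsg.Agent.S2111.result hm hF)))

theorem suzuki_cover_odd (hZ : Z ≤ center L) (hperf : _root_.commutator L = ⊤) (hodd : Odd (Nat.card Z))
    {F : Type} [Field F] [Fintype F] {m : ℕ} (hm : 1 ≤ m) (hF : Fintype.card F = 2 ^ (2 * m + 1))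
    (e : L ⧸ Z ≃* ↥(Cfsg.Lie.Sz F (2 ^ (m + 1)))) : Z = ⊥ := by
  rcases hm.eq_or_lt with rfl | h2
  swap
  · exact suzuki_cover_large Z hZ hperf h2 hF e
  haveI : Finite ↥(Cfsg.Lie.Sz F (2 ^ (1 + 1))) := Finite.of_equiv _ e.toEquiv
  have h := card_dvd_of_iso Z hZ hperf e (Cfsg.Agent.S2112.result (F := F) (by rw [hF]; norm_num))
  have hc : Nat.card (Multiplicative (ZMod 2 × ZMod 2)) = 2 ^ 2 := by
    rw [Nat.card_congr Multiplicative.toAdd, Nat.card_prod, Nat.card_zmod]; rfl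
  rw [hc] at h
  exact card_eq_one.1 (Nat.eq_one_of_dvd_coprimes ((Nat.coprime_two_left.2 hodd).pow_left 2) h dvd_rfl)

theorem su_commutator {F : Type} [Field F] [Fintype F] {q : ℕ} (hF : Fintype.card F = q ^ 2) (hq : 4 ≤ q) :
    _root_.commutator ↥(Cfsg.SU 3 F q) = ⊤ := by
  classical
  set H := Cfsg.Lib.Classical.stdHerm 3 hF with hH
  let e : H.SIsom ≃* Cfsg.SU 3 F q := Cfsg.Lib.Classical.suEquiv 3 hF
  have hq' : H.q = q := Cfsg.Lib.Classical.stdHerm_q hF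
  have hperf' : _root_.commutator H.SIsom = ⊤ := H.commutator_SIsom (by
    rw [Module.finrank_fin_fun, hq']; omega)
  have h : (_root_.commutator H.SIsom).map e.toMonoidHom = _root_.commutator (Cfsg.SU 3 F q) := by
    rw [_root_.commutator_def, _root_.commutator_def, Subgroup.map_commutator,
      Subgroup.map_top_of_surjective _ e.surjective]
  rw [← h, hperf', Subgroup.map_top_of_surjective _ e.surjective]

theorem unitary_dvd (hZ : Z ≤ center L) (hperf : _root_.commutator L = ⊤)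
    {F : Type} [Field F] [Fintype F] {n : ℕ} (hn : 2 ≤ n) (hF : Fintype.card F = (2 ^ n) ^ 2)
    (e : L ⧸ Z ≃* Cfsg.PSU 3 F (2 ^ n)) : Nat.card Z ∣ Nat.gcd 3 (2 ^ n + 1) := by
  have h4 : 4 ≤ 2 ^ n := le_of_eq_of_le (by norm_num) (Nat.pow_le_pow_right two_pos hn)
  haveI : Finite (Cfsg.PSU 3 F (2 ^ n)) := Finite.of_equiv _ e.toEquiv
  exact card_dvd_of_cyclic Z hZ hperf e (Cfsg.Agent.S2089.result 3 (2 ^ n) hF le_rfl (by omega) (by
    simp only [Set.mem_insert_iff, Set.mem_singleton_iff, Prod.mk.injEq]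
    omega))

theorem unitary_cover_two (hZ : Z ≤ center L) (hperf : _root_.commutator L = ⊤) (hp : IsPGroup 2 Z)
    {F : Type} [Field F] [Fintype F] {n : ℕ} (hn : 2 ≤ n) (hF : Fintype.card F = (2 ^ n) ^ 2)
    (e : L ⧸ Z ≃* Cfsg.PSU 3 F (2 ^ n)) : Z = ⊥ := by
  haveI : Fact (Nat.Prime 2) := ⟨Nat.prime_two⟩
  obtain ⟨j, hj⟩ := IsPGroup.iff_card.1 hp
  have h := (unitary_dvd Z hZ hperf hn hF e).trans (Nat.gcd_dvd_left _ _)
  rw [hj] at h
  exact card_eq_one.1 (hj.trans (Nat.eq_one_of_dvd_coprimes ((show Nat.Coprime 2 3 by norm_num).pow_left j) dvd_rfl h))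

/-- perfect odd covers of `PSU(3, q)` -/
theorem unitary_cover (hZ : Z ≤ center L) (hperf : _root_.commutator L = ⊤)
    {F : Type} [Field F] [Fintype F] {n : ℕ} (hn : 2 ≤ n) (hF : Fintype.card F = (2 ^ n) ^ 2)
    (e : L ⧸ Z ≃* Cfsg.PSU 3 F (2 ^ n)) :
    Nonempty (L ≃* Cfsg.PSU 3 F (2 ^ n)) ∨ Nonempty (L ≃* ↥(Cfsg.SU 3 F (2 ^ n))) := by
  classical
  have h := unitary_dvd Z hZ hperf hn hF e
  have h4 : 4 ≤ 2 ^ n := le_of_eq_of_le (by norm_num) (Nat.pow_le_pow_right two_pos hn)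
  haveI : Fact (Nat.Prime 3) := ⟨Nat.prime_three⟩
  rcases (Nat.dvd_prime Nat.prime_three).1 (h.trans (Nat.gcd_dvd_left _ _)) with h1 | h3
  · obtain rfl := card_eq_one.1 h1
    exact Or.inl ⟨QuotientGroup.quotientBot.symm.trans e⟩
  refine Or.inr ?_
  have hg : Nat.gcd 3 (2 ^ n + 1) = 3 := Nat.dvd_antisymm (Nat.gcd_dvd_left _ _) (h3 ▸ h)
  set σ₀ : ↥(Cfsg.SU 3 F (2 ^ n)) →* L ⧸ Z :=
    e.symm.toMonoidHom.comp (QuotientGroup.mk' (Subgroup.center ↥(Cfsg.SU 3 F (2 ^ n)))) with hσ₀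
  let σ₁ : ULift.{u} ↥(Cfsg.SU 3 F (2 ^ n)) →* L ⧸ Z := σ₀.comp MulEquiv.ulift.toMonoidHom
  have hk₀ : σ₀.ker = Subgroup.center ↥(Cfsg.SU 3 F (2 ^ n)) := by
    rw [hσ₀, ker_equiv_comp, QuotientGroup.ker_mk']
  have hk₁ : σ₁.ker = (Subgroup.center ↥(Cfsg.SU 3 F (2 ^ n))).map MulEquiv.ulift.symm.toMonoidHom := by
    ext x
    constructor
    · exact fun hx => ⟨MulEquiv.ulift x, hk₀.le (show σ₀ (MulEquiv.ulift x) = 1 from hx), MulEquiv.ulift.symm_apply_apply x⟩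
    · rintro ⟨y, hy, rfl⟩
      show σ₀ (MulEquiv.ulift.{0, u} ((MulEquiv.ulift.{0, u} (α := ↥(Cfsg.SU 3 F (2 ^ n)))).symm y)) = 1
      rw [MulEquiv.apply_symm_apply]
      exact hk₀.ge hy
  have hperf₁ : _root_.commutator (ULift.{u} ↥(Cfsg.SU 3 F (2 ^ n))) = ⊤ := by
    have := Subgroup.map_commutator (⊤ : Subgroup ↥(Cfsg.SU 3 F (2 ^ n))) ⊤
      (MulEquiv.ulift.{0, u} (α := ↥(Cfsg.SU 3 F (2 ^ n)))).symm.toMonoidHom
    rw [Subgroup.map_top_of_surjective _ (MulEquiv.ulift.{0, u} (α := ↥(Cfsg.SU 3 F (2 ^ n)))).symm.surjective,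
      ← _root_.commutator_def, su_commutator hF h4,
      Subgroup.map_top_of_surjective _ (MulEquiv.ulift.{0, u} (α := ↥(Cfsg.SU 3 F (2 ^ n)))).symm.surjective] at this
    exact this.symm
  have hs₁ : Cfsg.IsStemExtension σ₁ := by
    refine ⟨(e.symm.surjective.comp (QuotientGroup.mk'_surjective _)).comp MulEquiv.ulift.surjective, ?_, hperf₁ ▸ le_top⟩
    rw [hk₁]
    rintro _ ⟨x, hx, rfl⟩
    exact mem_center_iff.2 fun y => MulEquiv.ulift.injective (by
      rw [map_mul, map_mul]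
      exact mem_center_iff.1 hx _)
  have hc₁ : Nat.card σ₁.ker = 3 := by
    rw [hk₁, card_map_of_injective (MulEquiv.injective _), Cfsg.Lib.Classical.card_center_SU hF (by norm_num), hg]
  obtain ⟨hs₂, -⟩ := stem_of_iso Z hZ hperf (MulEquiv.refl (L ⧸ Z))
  have hs₂' : Cfsg.IsStemExtension (QuotientGroup.mk' Z) :=
    ⟨QuotientGroup.mk'_surjective Z, (QuotientGroup.ker_mk' Z).le.trans hZ, hperf ▸ le_top⟩
  have h3' : Nat.card (Multiplicative (ZMod 3)) = 3 := by simp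
  have hA : Cfsg.HasSchurMultiplier (L ⧸ Z) (Multiplicative (ZMod 3)) := by
    refine ⟨⟨ULift.{u} ↥(Cfsg.SU 3 F (2 ^ n)), inferInstance, inferInstance, σ₁, hs₁,
      ⟨mulEquivOfPrimeCardEq hc₁ h3'⟩⟩, fun Γ _ _ τ hτ => ?_⟩
    have hτ' : Cfsg.IsStemExtension (e.toMonoidHom.comp τ) := by
      have hk : (e.toMonoidHom.comp τ).ker = τ.ker := ker_equiv_comp _ _
      exact ⟨e.surjective.comp hτ.1, hk.le.trans hτ.2.1, hk.le.trans hτ.2.2⟩
    have hd := card_ker_dvd (Cfsg.Agent.S2089.result 3 (2 ^ n) hF le_rfl (by omega) (by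
      simp only [Set.mem_insert_iff, Set.mem_singleton_iff, Prod.mk.injEq]
      omega)) hτ'
    rw [ker_equiv_comp, Nat.card_congr Multiplicative.toAdd, Nat.card_zmod, hg] at hd
    haveI : IsCyclic τ.ker := by
      rcases (Nat.dvd_prime Nat.prime_three).1 hd with h1 | h1
      · haveI := (Nat.card_eq_one_iff_unique.1 h1).1
        infer_instance
      · exact isCyclic_of_prime_card h1
    exact Cfsg.Lib.Schur.exists_zmod_surj hd
  have hQ : _root_.commutator (L ⧸ Z) = ⊤ := by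
    rw [_root_.commutator_def, ← Subgroup.map_top_of_surjective (QuotientGroup.mk' Z) (QuotientGroup.mk'_surjective Z),
      ← Subgroup.map_commutator, ← _root_.commutator_def, hperf]
  have hcop : Nat.Coprime (Nat.card (Abelianization (L ⧸ Z))) (Nat.card (Multiplicative (ZMod 3))) := by
    have h1 : Nat.card (Abelianization (L ⧸ Z)) = 1 := by
      rw [show Nat.card (Abelianization (L ⧸ Z)) = (_root_.commutator (L ⧸ Z)).index from
        (Subgroup.index_eq_card _).symm, hQ, Subgroup.index_top]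
    rw [h1]; exact Nat.coprime_one_left _
  obtain ⟨f, -⟩ := (Cfsg.Agent.S3974.result hA).2 hcop L (ULift.{u} ↥(Cfsg.SU 3 F (2 ^ n))) (QuotientGroup.mk' Z) σ₁
    hs₂' hs₁ ⟨mulEquivOfPrimeCardEq (by rw [QuotientGroup.ker_mk']; exact h3) h3'⟩
    ⟨mulEquivOfPrimeCardEq hc₁ h3'⟩
  exact ⟨f.trans MulEquiv.ulift⟩

end Cfsg.Lib.Walter.CI
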