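import Cfsg.Agent.Walter.CI.General
import Cfsg.Agent.Walter.CI.Covers
import Cfsg.Agent.Walter.Consumers.Intersections
import Cfsg.Agent.Suz.Lie
import Cfsg.Agent.Suz.Sylow
import Cfsg.Prelude.Def_Local

/-!
Groups with central Sylow 2-intersections: lifting the structure over the odd core (row 3181).
-/

set_option autoImplicit false
set_option linter.unusedSectionVars false
set_option linter.style.haveILetI false

namespace Cfsg.Lib.Walter.CI

open Subgroup
open scoped Pointwise commutatorElement MatrixGroups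

universe u v

/-- The Suzuki groups have Sylow 2-subgroups which are not elementary. -/
theorem suzuki_not_sq {X : Type u} [Group X] [Finite X] {F : Type} [Field F] [Fintype F] {m : ℕ} (hm : 1 ≤ m)
    (hF : Fintype.card F = 2 ^ (2 * m + 1)) (e : X ≃* ↥(Cfsg.Lie.Sz F (2 ^ (m + 1))))
    (h : ∀ P : Sylow 2 X, ∀ x ∈ (P : Subgroup X), x * x = 1) : False := by
  classical
  haveI : Fact (Nat.Prime 2) := ⟨Nat.prime_two⟩
  have Q : Cfsg.Lib.Suz.Par F m := ⟨hm, hF⟩
  set f := e.trans (Cfsg.Lib.Suz.lieEquiv Q).symm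
  have h1 := Consumers.sylow_sq_equiv f.symm h (Cfsg.Lib.Suz.syl Q) _ (Cfsg.Lib.Suz.uu_mem Q 1 0)
  rw [← pow_two, Cfsg.Lib.Suz.uu_sq, one_pow, ← Cfsg.Lib.Suz.uu_zero Q] at h1
  exact one_ne_zero (Cfsg.Lib.Suz.uu_inj Q h1).2

theorem cyclic_commutator_surj {A : Type u} {B : Type v} [Group A] [Group B] (f : A →* B)
    (hf : Function.Surjective f) (hc : IsCyclic ↥(_root_.commutator A)) : IsCyclic ↥(_root_.commutator B) := by
  have h : (_root_.commutator A).map f = _root_.commutator B := by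
    rw [_root_.commutator_def, _root_.commutator_def, map_commutator, map_top_of_surjective f hf]
  rw [← h]
  exact isCyclic_of_surjective (f.subgroupMap _) (f.subgroupMap_surjective _)

theorem cyclic_commutator_inj {A : Type u} {B : Type v} [Group A] [Group B] (f : A →* B)
    (hf : Function.Injective f) (hc : IsCyclic ↥(_root_.commutator B)) : IsCyclic ↥(_root_.commutator A) := by
  have h : (_root_.commutator A).map f ≤ _root_.commutator B := by
    rw [_root_.commutator_def, _root_.commutator_def, map_commutator]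
    exact commutator_mono le_top le_top
  exact isCyclic_of_injective
    ((inclusion h).comp ((_root_.commutator A).equivMapOfInjective f hf).toMonoidHom)
    ((inclusion_injective h).comp (MulEquiv.injective _))

variable {G : Type u} [Group G] [Finite G]

/-- A perfect normal subgroup and an abelian normal 2-subgroup above the component and the core of the quotient. -/
structure Lifted (K P : Subgroup (G ⧸ Cfsg.pPrimeCore 2 G)) (A L : Subgroup G) : Prop where
  anormal : A.Normal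
  lnormal : L.Normal
  aab : IsMulCommutative ↥A
  a2 : IsPGroup 2 ↥A
  comm : ∀ a ∈ A, ∀ l ∈ L, a * l = l * a
  odd : Odd (A ⊔ L).index
  perfect : ⁅L, L⁆ = L
  lmap : L.map (QuotientGroup.mk' (Cfsg.pPrimeCore 2 G)) = K
  lcore : ∀ l ∈ L, l ∈ Cfsg.pPrimeCore 2 G → l ∈ centralizer (L : Set G)
  acore : ∀ a ∈ A, a ∈ Cfsg.pPrimeCore 2 G → a = 1

theorem exists_lifted (S : Sylow 2 G) {K P : Subgroup (G ⧸ Cfsg.pPrimeCore 2 G)}
    (h : Parts (S.mapSurjective (QuotientGroup.mk'_surjective (Cfsg.pPrimeCore 2 G))) K P)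
    (hsig : (S : Subgroup G) ≤ centralizer (Cfsg.pPrimeCore 2 G : Set G)) :
    ∃ A L : Subgroup G, Lifted K P A L := by
  haveI : Fact (Nat.Prime 2) := ⟨Nat.prime_two⟩
  set O := Cfsg.pPrimeCore 2 G with hO
  haveI hOn : O.Normal := Cfsg.Lib.Components.pPrimeCore_normal' 2
  have hOodd : Odd (Nat.card O) := Cfsg.Lib.ZStarApps.odd_card_pPrimeCore
  set π := QuotientGroup.mk' O with hπ
  have hπs : Function.Surjective π := QuotientGroup.mk'_surjective O
  have hπ1 : ∀ x, π x = 1 ↔ x ∈ O := fun x => QuotientGroup.eq_one_iff x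
  haveI := h.knormal
  haveI := h.pnormal
  -- elements of 2-power order in the core
  have htriv : ∀ x ∈ O, ∀ k : ℕ, x ^ 2 ^ k = 1 → x = 1 := fun x hx k hk => orderOf_eq_one_iff.1 (by
    have h1 := Subgroup.orderOf_dvd_natCard O hx
    exact Nat.eq_one_of_dvd_coprimes ((Nat.coprime_two_left.2 hOodd).pow_left k) (orderOf_dvd_of_pow_eq_one hk) h1)
  have hSO : ∀ x ∈ (S : Subgroup G), x ∈ O → x = 1 := fun x hx hxO => by
    obtain ⟨k, hk⟩ := S.2 ⟨x, hx⟩
    exact htriv x hxO k (congrArg Subtype.val hk)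
  set T := normalClosure ((S : Subgroup G) : Set G) with hT
  haveI : (centralizer (O : Set G)).Normal := inferInstance
  have hTO : T ≤ centralizer (O : Set G) := normalClosure_le_normal hsig
  have hST : (S : Subgroup G) ≤ T := subset_normalClosure
  have hSmap : ((S.mapSurjective hπs : Sylow 2 (G ⧸ O)) : Subgroup (G ⧸ O)) = (S : Subgroup G).map π :=
    Sylow.coe_mapSurjective _ _
  -- the image of `T` contains `K`
  haveI : (T.map π).Normal := Subgroup.Normal.map inferInstance π hπs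
  have hKT : K ≤ T.map π := by
    rcases Cfsg.Lib.Components.qs_subnormal_eq_top_or_le_center h.qs
        (H := (T.map π).subgroupOf K) (Subgroup.Normal.subgroupOf inferInstance K).isSubnormal with e | e
    · exact fun k hk => e.ge (mem_top (⟨k, hk⟩ : K))
    · exfalso
      obtain ⟨a, ha, b, hb, hab⟩ := h.noncomm
      rw [hSmap] at ha hb
      have hb' := e (show (⟨b, hb.2⟩ : K) ∈ (T.map π).subgroupOf K from map_mono hST hb.1)
      exact hab (congrArg Subtype.val (mem_center_iff.1 hb' ⟨a, ha.2⟩))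
  have hPS : P ≤ (S : Subgroup G).map π := hSmap ▸
    (Cfsg.Lib.Components.le_pCore h.p2).trans (Cfsg.Lib.Coprime.pCore_le_sylow 2 _)
  set K₀ := T ⊓ K.comap π with hK₀
  haveI : K₀.Normal := Subgroup.normal_inf_normal _ _
  have hK₀map : K₀.map π = K := by
    refine le_antisymm ((map_mono inf_le_right).trans (map_comap_le _ _)) fun k hk => ?_
    obtain ⟨t, ht, rfl⟩ := hKT hk
    exact mem_map_of_mem _ (mem_inf.2 ⟨ht, hk⟩)
  set L := ⁅K₀, K₀⁆ with hL
  have hLK₀ : L ≤ K₀ := commutator_le_self K₀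
  have hLmap : L.map π = K := by rw [hL, map_commutator, hK₀map, h.perfect]
  have hcore : ∀ {o t : G}, o ∈ O → t ∈ T → o * t = t * o := fun ho ht => mem_centralizer_iff.1 (hTO ht) _ ho
  have hperf : ⁅L, L⁆ = L := by
    refine le_antisymm (commutator_le_self L) ?_
    show ⁅K₀, K₀⁆ ≤ ⁅L, L⁆
    rw [commutator_le]
    intro a ha b hb
    have split : ∀ x ∈ K₀, ∃ l ∈ L, ∃ o ∈ O, x = l * o := fun x hx => by
      obtain ⟨l, hl, hlx⟩ := hLmap.ge (hx.2 : π x ∈ K)
      exact ⟨l, hl, l⁻¹ * x, QuotientGroup.eq.1 hlx, by rw [mul_inv_cancel_left]⟩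
    obtain ⟨l, hl, o, ho, rfl⟩ := split a ha
    obtain ⟨l', hl', o', ho', rfl⟩ := split b hb
    have c1 : Commute o l' := hcore ho (hLK₀ hl').1
    have c2 : Commute o' l := hcore ho' (hLK₀ hl).1
    have hoT : o ∈ T := by simpa using T.mul_mem (T.inv_mem (hLK₀ hl).1) ha.1
    have c3 : Commute o' o := hcore ho' hoT
    have e : ⁅l * o, l' * o'⁆ = ⁅l, l'⁆ := by
      have e1 : l * o * (l' * o') * (l * o)⁻¹ = l * l' * l⁻¹ * o' := by
        rw [_root_.mul_inv_rev, show l * o * (l' * o') * (o⁻¹ * l⁻¹) = l * ((o * l') * (o' * o⁻¹)) * l⁻¹ by group, c1.eq,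
          c3.inv_right.eq]
        calc l * (l' * o * (o⁻¹ * o')) * l⁻¹ = l * l' * (o' * l⁻¹) := by group
          _ = _ := by rw [c2.inv_right.eq]; group
      rw [commutatorElement_def, e1, commutatorElement_def]
      group
    rw [e]
    exact commutator_mem_commutator hl hl'
  have hlcore : ∀ l ∈ L, l ∈ O → l ∈ centralizer (L : Set G) := fun l _ hlO =>
    mem_centralizer_iff.2 fun x hx => (hcore hlO (hLK₀ hx).1).symm
  set A := (S : Subgroup G) ⊓ P.comap π with hA
  have hAmap : A.map π = P := by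
    refine le_antisymm ((map_mono inf_le_right).trans (map_comap_le _ _)) fun x hx => ?_
    obtain ⟨s, hs, rfl⟩ := hPS hx
    exact mem_map_of_mem _ (mem_inf.2 ⟨hs, hx⟩)
  have hAn : A.Normal := by
    refine ⟨fun a ha g => ?_⟩
    have hgP : π (g * a * g⁻¹) ∈ P := by
      rw [map_mul, map_mul, map_inv]; exact (inferInstance : P.Normal).conj_mem _ ha.2 _
    obtain ⟨s, hs, hse⟩ := hAmap.ge hgP
    set o := s⁻¹ * (g * a * g⁻¹) with ho
    have hoO : o ∈ O := QuotientGroup.eq.1 hse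
    have hc : Commute o s := hcore hoO (hST hs.1)
    obtain ⟨i, hi⟩ := S.2 ⟨a, ha.1⟩
    obtain ⟨j, hj⟩ := S.2 ⟨s, hs.1⟩
    have hi' : a ^ 2 ^ i = 1 := congrArg Subtype.val hi
    have hj' : s ^ 2 ^ j = 1 := congrArg Subtype.val hj
    have ho1 : o = 1 := by
      refine htriv o hoO (i + j) ?_
      have e : (g * a * g⁻¹) ^ 2 ^ (i + j) = 1 := by
        rw [_root_.conj_pow, pow_add, pow_mul, hi', one_pow, mul_one, mul_inv_cancel]
      rw [show g * a * g⁻¹ = o * s by rw [hc.eq, ho, mul_inv_cancel_left], hc.mul_pow,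
        show s ^ 2 ^ (i + j) = 1 by rw [pow_add, mul_comm, pow_mul, hj', one_pow], mul_one] at e
      exact e
    rw [ho, inv_mul_eq_one] at ho1
    exact ho1 ▸ hs
  have hAab : IsMulCommutative ↥A := ⟨⟨fun a b => Subtype.ext (commutatorElement_eq_one_iff_mul_comm.1
    (hSO ⁅(a : G), (b : G)⁆ (by
      rw [commutatorElement_def]
      exact mul_mem (mul_mem (mul_mem a.2.1 b.2.1) (inv_mem a.2.1)) (inv_mem b.2.1)) ((hπ1 _).1 (by
      rw [map_commutatorElement]
      exact commutatorElement_eq_one_iff_mul_comm.2 (h.pab _ a.2.2 _ b.2.2)))))⟩⟩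
  haveI hLn : L.Normal := inferInstance
  have hcomm : ∀ a ∈ A, ∀ l ∈ L, a * l = l * a := by
    intro a ha
    have hac := commute_of_mod_center hperf (s := a) fun l hl => by
      have hxL : a * l * a⁻¹ * l⁻¹ ∈ L := mul_mem (hLn.conj_mem l hl a) (inv_mem hl)
      refine mem_inf.2 ⟨hxL, hlcore _ hxL ((hπ1 _).1 ?_)⟩
      rw [map_mul, map_mul, map_mul, map_inv, map_inv, h.comm _ ha.2 _ (hLmap.le (mem_map_of_mem _ hl)),
        mul_inv_cancel_right, mul_inv_cancel]
    exact fun l hl => (mem_centralizer_iff.1 hac l hl).symm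
  refine ⟨A, L, hAn, hLn, hAab, S.2.to_le inf_le_left, hcomm, ?_, hperf, hLmap, hlcore,
    fun a ha hO' => hSO a ha.1 hO'⟩
  have hmap : (A ⊔ L).map π = K ⊔ P := by rw [Subgroup.map_sup, hAmap, hLmap, sup_comm]
  obtain ⟨c, hc⟩ : Nat.card ↥((A ⊔ L).map π) ∣ Nat.card ↥(A ⊔ L) := card_map_dvd _ _
  have h1 := (A ⊔ L).card_mul_index
  rw [hc, Subgroup.card_eq_card_quotient_mul_card_subgroup O, ← ((A ⊔ L).map π).card_mul_index, mul_assoc,
    mul_assoc] at h1
  have h2 := Nat.eq_of_mul_eq_mul_left Nat.card_pos h1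
  refine Odd.of_dvd_nat ?_ (Dvd.intro_left _ h2)
  rw [hmap]
  exact h.odd.mul hOodd

/-- the solvable alternative, the abelian alternative, or the structure modulo the odd core -/
theorem exists_structure (elem : ElemProp.{u}) (hG : IsCI G) (hns : ¬ Group.IsSolvable G) (S : Sylow 2 G)
    (hS : ¬ IsMulCommutative ↥(S : Subgroup G)) :
    ∃ K P : Subgroup (G ⧸ Cfsg.pPrimeCore 2 G),
      Parts (S.mapSurjective (QuotientGroup.mk'_surjective (Cfsg.pPrimeCore 2 G))) K P := by
  haveI : (Cfsg.pPrimeCore 2 G).Normal := Cfsg.Lib.Components.pPrimeCore_normal' 2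
  refine exists_parts elem (hG.quotient_odd _) (fun hs => hns ?_) Cfsg.Lib.Coprime.pPrimeCore_quotient_eq_bot _
    (sylow_noncomm_quotient _ Cfsg.Lib.ZStarApps.odd_card_pPrimeCore S hS)
  haveI := hs
  haveI := Cfsg.Agent.PF.isSolvable_of_odd (Cfsg.pPrimeCore 2 G) Cfsg.Lib.ZStarApps.odd_card_pPrimeCore
  exact Group.isSolvable_of_ker_le_range (Cfsg.pPrimeCore 2 G).subtype (QuotientGroup.mk' (Cfsg.pPrimeCore 2 G))
    (by simp)

/-- row 3181 -/
theorem structure_of_isCI (elem : ElemProp.{u}) (hG : IsCI G) :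
    (Group.IsSolvable G ∧ Cfsg.PLengthLE 2 1 G) ∨
    (∀ S : Sylow 2 G, IsMulCommutative ↥(S : Subgroup G)) ∨
    (∃ (N M : Subgroup G) (_ : N.Normal) (_ : M.Normal) (_ : (N.subgroupOf M).Normal), N < M ∧ Odd (Nat.card ↥N) ∧ Odd M.index ∧
      ∃ A L : Subgroup (↥M ⧸ N.subgroupOf M), IsMulCommutative ↥A ∧ IsPGroup 2 ↥A ∧
        Nonempty (↥L ≃* Matrix.SpecialLinearGroup (Fin 2) (ZMod 5)) ∧ (∀ a ∈ A, ∀ l ∈ L, a * l = l * a) ∧ A ⊔ L = ⊤) ∨
    (∃ (M : Subgroup G), M.Normal ∧ Odd M.index ∧ ∃ A L : Subgroup G, IsMulCommutative ↥A ∧ IsPGroup 2 ↥A ∧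
      ((Cfsg.IsInternalDirectProduct A L M ∧
          ((∃ (m : ℕ) (F : Type) (_ : Field F) (_ : Fintype F), 1 ≤ m ∧ Fintype.card F = 2 ^ (2 * m + 1) ∧
              Nonempty (↥L ≃* ↥(Cfsg.Lie.Sz F (2 ^ (m + 1))))) ∨
            (∃ (n : ℕ) (F : Type) (_ : Field F) (_ : Fintype F), 2 ≤ n ∧ Fintype.card F = 4 ^ n ∧
              (Nonempty (↥L ≃* Cfsg.PSU 3 F (2 ^ n)) ∨ Nonempty (↥L ≃* ↥(Cfsg.SU 3 F (2 ^ n))))))) ∨
        (A ≤ M ∧ L ≤ M ∧ (∀ a ∈ A, ∀ l ∈ L, a * l = l * a) ∧ A ⊔ L = M ∧ Group.IsPerfect ↥L ∧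
          Subgroup.center ↥L ≠ ⊥ ∧
          ∃ (F : Type) (_ : Field F) (_ : Fintype F), Fintype.card F = 8 ∧
            Nonempty (↥L ⧸ Subgroup.center ↥L ≃* ↥(Cfsg.Lie.Sz F 4))))) := by
  classical
  haveI : Fact (Nat.Prime 2) := ⟨Nat.prime_two⟩
  by_cases hsol : Group.IsSolvable G
  · exact Or.inl ⟨hsol, plength_of_solvable hG hsol⟩
  refine Or.inr ?_
  by_cases hab : ∀ S : Sylow 2 G, IsMulCommutative ↥(S : Subgroup G)
  · exact Or.inl hab
  refine Or.inr ?_
  push Not at hab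
  obtain ⟨S, hS⟩ := hab
  obtain ⟨K, P, h⟩ := exists_structure elem hG hsol S hS
  set O := Cfsg.pPrimeCore 2 G with hO
  haveI hOn : O.Normal := Cfsg.Lib.Components.pPrimeCore_normal' 2
  have hOodd : Odd (Nat.card O) := Cfsg.Lib.ZStarApps.odd_card_pPrimeCore
  set π := QuotientGroup.mk' O with hπ
  have hπs : Function.Surjective π := QuotientGroup.mk'_surjective O
  haveI := h.knormal
  haveI := h.pnormal
  haveI := h.qs.2
  obtain ⟨Q, hQ⟩ := h.sylow
  set ρ := QuotientGroup.mk' (center ↥K) with hρ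
  have hρs : Function.Surjective ρ := QuotientGroup.mk'_surjective _
  have hnab : ¬ IsMulCommutative (↥K ⧸ center ↥K) := Cfsg.Lib.CpQuot.not_commutative h.qs
  have hKperf : _root_.commutator ↥K = ⊤ := Cfsg.Lib.Components.qs_commutator_top h.qs
  have hQnc : ¬ IsMulCommutative ↥(Q : Subgroup K) := by
    intro hc
    obtain ⟨a, ha, b, hb, hne⟩ := h.noncomm
    haveI := hc
    exact hne (congrArg (fun x : ↥(Q : Subgroup K) => ((x : K) : G ⧸ O))
      (mul_comm' (⟨⟨a, ha.2⟩, hQ ▸ mem_subgroupOf.2 ha.1⟩ : ↥(Q : Subgroup K)) ⟨⟨b, hb.2⟩, hQ ▸ mem_subgroupOf.2 hb.1⟩))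
  set P' := Q.mapSurjective hρs with hP'
  have hinj : center ↥K = ⊥ → ¬ IsMulCommutative ↥(P' : Subgroup (↥K ⧸ center ↥K)) := by
    intro hZ hc
    haveI := hc
    refine hQnc ⟨⟨fun a b => Subtype.ext ?_⟩⟩
    have e := congrArg Subtype.val (mul_comm'
      (⟨ρ a, mem_map_of_mem ρ a.2⟩ : ↥(P' : Subgroup (↥K ⧸ center ↥K))) ⟨ρ b, mem_map_of_mem ρ b.2⟩)
    have e' : ρ ((a : K) * b) = ρ ((b : K) * a) := by rw [map_mul, map_mul]; exact e
    exact (MonoidHom.ker_eq_bot_iff ρ).1 (by rw [hρ, QuotientGroup.ker_mk', hZ]) e'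
  -- the three families
  rcases Consumers.ident_of_embedded hnab h.se with
    ⟨F, iF, jF, ⟨n, hn, hF⟩, ⟨e⟩⟩ | ⟨F, iF, jF, m, hm, hF, ⟨e⟩⟩ | ⟨F, iF, jF, n, hn, hF, ⟨e⟩⟩
  · -- `PSL(2, 2ⁿ)`
    refine Or.inl ?_
    by_cases hZ : center ↥K = ⊥
    · refine absurd ?_ (hinj hZ)
      have hsq := Consumers.sylow_sq_equiv e (Consumers.binary_sylow_sq hn hF) P'
      exact ⟨⟨fun a b => Subtype.ext (by
        have e1 : ∀ w : ↥(P' : Subgroup (↥K ⧸ center ↥K)), (w : ↥K ⧸ center ↥K)⁻¹ = w := fun w =>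
          inv_eq_of_mul_eq_one_right (hsq w w.2)
        show (a : ↥K ⧸ center ↥K) * b = b * a
        calc (a : ↥K ⧸ center ↥K) * b = ((a : ↥K ⧸ center ↥K) * b)⁻¹ := (e1 (a * b)).symm
          _ = (b : ↥K ⧸ center ↥K)⁻¹ * (a : ↥K ⧸ center ↥K)⁻¹ := mul_inv_rev _ _
          _ = b * a := by rw [e1, e1])⟩⟩
    obtain ⟨g⟩ := binary_cover (center ↥K) le_rfl hKperf h.center2 hZ hn hF e
    set M' := K ⊔ P with hM'
    set M := M'.comap π with hM
    haveI hMn : M.Normal := (Subgroup.sup_normal K P).comap π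
    have hOM : O ≤ M := fun x hx => mem_comap.2 (by
      rw [show π x = 1 from (QuotientGroup.eq_one_iff x).2 hx]; exact one_mem _)
    have hNn : (O.subgroupOf M).Normal := hOn.subgroupOf M
    set φ := π.subgroupComap M' with hφ
    have hφk : φ.ker = O.subgroupOf M := by
      ext x
      rw [MonoidHom.mem_ker, mem_subgroupOf, Subtype.ext_iff]
      exact QuotientGroup.eq_one_iff (x : G)
    let ε : ↥M ⧸ O.subgroupOf M ≃* ↥M' :=
      (QuotientGroup.quotientMulEquivOfEq hφk.symm).trans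
        (QuotientGroup.quotientKerEquivOfSurjective φ (π.subgroupComap_surjective_of_surjective M' hπs))
    refine ⟨O, M, hOn, hMn, hNn, lt_of_le_of_ne hOM fun e' => ?_, hOodd, ?_,
      (P.subgroupOf M').map ε.symm.toMonoidHom, (K.subgroupOf M').map ε.symm.toMonoidHom, ?_, ?_, ⟨?_⟩, ?_, ?_⟩
    · refine Cfsg.Lib.Components.qs_center_ne_top h.qs ((Subgroup.eq_top_iff' _).2 fun x => ?_)
      have hx : (x : G ⧸ O) = 1 := by
        obtain ⟨y, hy⟩ := hπs (x : G ⧸ O)
        have : y ∈ M := mem_comap.2 (hy ▸ mem_sup_left x.2)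
        rw [← hy]; exact (QuotientGroup.eq_one_iff y).2 (e' ▸ this)
      rw [show x = 1 from Subtype.ext hx]; exact one_mem _
    · rw [hM, index_comap_of_surjective _ hπs]; exact h.odd
    · refine ⟨⟨fun a b => Subtype.ext ?_⟩⟩
      obtain ⟨_, x, hx, rfl⟩ := a
      obtain ⟨_, y, hy, rfl⟩ := b
      show ε.symm x * ε.symm y = ε.symm y * ε.symm x
      rw [← map_mul, ← map_mul]
      exact congrArg _ (Subtype.ext (h.pab _ hx _ hy))
    · exact (h.p2.comap_of_injective M'.subtype M'.subtype_injective).map _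
    · exact (((K.subgroupOf M').equivMapOfInjective ε.symm.toMonoidHom ε.symm.injective).symm.trans
        (subgroupOfEquivOfLe le_sup_left)).trans g
    · rintro _ ⟨x, hx, rfl⟩ _ ⟨y, hy, rfl⟩
      rw [← map_mul, ← map_mul]
      exact congrArg _ (Subtype.ext (h.comm _ hx _ hy))
    · rw [← Subgroup.map_sup, ← subgroupOf_sup le_sup_right le_sup_left, sup_comm, subgroupOf_self,
        Subgroup.map_top_of_surjective _ ε.symm.surjective]
  all_goals
    refine Or.inr ?_
    have hP'nc : ¬ IsMulCommutative ↥(P' : Subgroup (↥K ⧸ center ↥K)) := by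
      first
        | exact hinj (unitary_cover_two (center ↥K) le_rfl hKperf h.center2 hn hF e)
        | exact fun hc => suzuki_not_sq hm hF e fun R => by
            obtain ⟨c, hc'⟩ := MulAction.exists_smul_eq (↥K ⧸ center ↥K) P' R
            exact Consumers.sylow_sq_of_one P' (elem _ hnab P' hc) R
    have hKCI : IsCI (↥K ⧸ center ↥K) := ((hG.quotient_odd O).subgroup K).quotient (center ↥K) le_rfl
    have hder : ¬ IsCyclic ↥(_root_.commutator ↥(S : Subgroup G)) := by
      intro hc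
      have h1 := cyclic_commutator_surj (π.subgroupMap (S : Subgroup G)) (π.subgroupMap_surjective _) hc
      have hQS : ∀ x : ↥(Q : Subgroup K), ((x : K) : G ⧸ O) ∈ (S : Subgroup G).map π := fun x => by
        have h' := mem_subgroupOf.1 (hQ.le x.2)
        rwa [Sylow.coe_mapSurjective] at h'
      have h2 := cyclic_commutator_inj ((K.subtype.comp (Q : Subgroup K).subtype).codRestrict _ hQS)
        (fun a b e' => Subtype.ext (Subtype.ext (congrArg (fun w : ↥((S : Subgroup G).map π) => (w : G ⧸ O)) e'))) h1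
      have h3 : IsCyclic ↥(_root_.commutator ↥(P' : Subgroup (↥K ⧸ center ↥K))) := by
        rw [hP', Sylow.coe_mapSurjective]
        exact cyclic_commutator_surj (ρ.subgroupMap _) (ρ.subgroupMap_surjective _) h2
      refine hP'nc ⟨⟨fun a b => commutatorElement_eq_one_iff_mul_comm.1 ?_⟩⟩
      have h4 := commutator_mem_commutator (mem_top a) (mem_top b)
      rwa [← _root_.commutator_def, no_cyclic_char hnab hKCI P' _ h3 inferInstance, mem_bot] at h4
    obtain ⟨A, L, hl⟩ := exists_lifted S h (signalizer_of hG S hS hder O hOodd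
      (fun s _ => normalizer_eq_top_iff.2 hOn ▸ mem_top s))
    haveI := hl.anormal
    haveI := hl.lnormal
    refine ⟨A ⊔ L, inferInstance, hl.odd, A, L, hl.aab, hl.a2, ?_⟩
    set f : ↥L →* ↥K := (MulEquiv.subgroupCongr hl.lmap).toMonoidHom.comp (π.subgroupMap L) with hf
    have hfs : Function.Surjective f := by
      intro k
      obtain ⟨x, hx⟩ := π.subgroupMap_surjective L ((MulEquiv.subgroupCongr hl.lmap).symm k)
      exact ⟨x, (congrArg (MulEquiv.subgroupCongr hl.lmap) hx).trans (MulEquiv.apply_symm_apply _ _)⟩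
    have hfk : ∀ x : ↥L, f x = 1 ↔ (x : G) ∈ O := fun x => by
      rw [Subtype.ext_iff]; exact QuotientGroup.eq_one_iff (x : G)
    have hLperf : _root_.commutator ↥L = ⊤ := by
      refine map_injective L.subtype_injective ?_
      rw [_root_.commutator_def, map_commutator, ← MonoidHom.range_eq_map, range_subtype, hl.perfect]
    set ψ := ρ.comp f with hψ
    have hψk : ψ.ker = center ↥L := by
      ext x
      rw [MonoidHom.mem_ker, hψ, MonoidHom.comp_apply, hρ, QuotientGroup.mk'_apply, QuotientGroup.eq_one_iff,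
        mem_center_coe x]
      constructor
      · intro hx
        refine commute_of_mod_center hl.perfect fun l hlm => ?_
        have hxL : (x : G) * l * (x : G)⁻¹ * l⁻¹ ∈ L := mul_mem (mul_mem (mul_mem x.2 hlm) (inv_mem x.2)) (inv_mem hlm)
        refine mem_inf.2 ⟨hxL, hl.lcore _ hxL ((hfk ⟨_, hxL⟩).1 ?_)⟩
        rw [show (⟨_, hxL⟩ : L) = x * ⟨l, hlm⟩ * x⁻¹ * (⟨l, hlm⟩ : L)⁻¹ from rfl, map_mul, map_mul, map_mul, map_inv,
          map_inv, ← mem_center_iff.1 hx (f ⟨l, hlm⟩), mul_inv_cancel_right, mul_inv_cancel]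
      · intro hx
        refine mem_center_iff.2 fun y => ?_
        obtain ⟨y, rfl⟩ := hfs y
        rw [← map_mul, ← map_mul]
        exact congrArg f (Subtype.ext (mem_centralizer_iff.1 hx y y.2))
    let η : ↥L ⧸ center ↥L ≃* (↥K ⧸ center ↥K) :=
      (QuotientGroup.quotientMulEquivOfEq hψk.symm).trans
        (QuotientGroup.quotientKerEquivOfSurjective ψ (hρs.comp hfs))
    have hodd : center ↥K = ⊥ → Odd (Nat.card (center ↥L)) ∧ A ⊓ L = ⊥ := by
      intro hZ
      have hcO : ∀ x : ↥L, x ∈ center ↥L → (x : G) ∈ O := fun x hx => (hfk x).1 (by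
        have h1 : ψ x = 1 := hψk.ge hx
        rwa [hψ, MonoidHom.comp_apply, hρ, QuotientGroup.mk'_apply, QuotientGroup.eq_one_iff, hZ, mem_bot] at h1)
      refine ⟨?_, (eq_bot_iff_forall _).2 fun x hx => ?_⟩
      · rw [← card_map_of_injective (K := center ↥L) L.subtype_injective]
        refine hOodd.of_dvd_nat (card_dvd_of_le ?_)
        rintro _ ⟨x, hx, rfl⟩
        exact hcO x hx
      · exact hl.acore x hx.1 (hcO ⟨x, hx.2⟩ (mem_center_iff.2 fun y =>
          Subtype.ext (hl.comm x hx.1 y y.2).symm))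
  · -- Suzuki
    by_cases hZ : center ↥K = ⊥
    · obtain ⟨ho, hbot⟩ := hodd hZ
      refine Or.inl ⟨⟨le_sup_left, le_sup_right, hl.comm, hbot, rfl⟩, Or.inl ⟨m, F, iF, jF, hm, hF, ?_⟩⟩
      have hc : center ↥L = ⊥ := suzuki_cover_odd _ le_rfl hLperf ho hm hF (η.trans e)
      exact ⟨((QuotientGroup.quotientMulEquivOfEq hc).trans QuotientGroup.quotientBot).symm.trans (η.trans e)⟩
    · have hm1 : m = 1 := by
        by_contra hne
        exact hZ (suzuki_cover_large _ le_rfl hKperf (by omega) hF e)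
      subst hm1
      refine Or.inr ⟨le_sup_left, le_sup_right, hl.comm, rfl, ⟨hLperf⟩, fun hc => hZ ?_,
        F, iF, jF, by rw [hF]; norm_num, ⟨η.trans e⟩⟩
      refine (eq_bot_iff_forall _).2 fun k hk => ?_
      obtain ⟨x, rfl⟩ := hfs k
      have hx : x ∈ center ↥L := hψk.le (show ψ x = 1 from (QuotientGroup.eq_one_iff _).2 hk)
      rw [hc, mem_bot] at hx
      rw [hx, map_one]
  · -- unitary
    have hZ : center ↥K = ⊥ := unitary_cover_two (center ↥K) le_rfl hKperf h.center2 hn hF e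
    obtain ⟨-, hbot⟩ := hodd hZ
    refine Or.inl ⟨⟨le_sup_left, le_sup_right, hl.comm, hbot, rfl⟩, Or.inr ⟨n, F, iF, jF, hn, ?_, ?_⟩⟩
    · rw [hF, ← pow_mul, mul_comm, pow_mul]
      norm_num
    · exact unitary_cover (center ↥L) le_rfl hLperf hn hF (η.trans e)

end Cfsg.Lib.Walter.CI
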