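import Cfsg.Prelude.Def_Involutions
import Cfsg.Agent.TwoFusion.Product.Main
import Cfsg.Agent.Coprime.MaximalInvariant
import Cfsg.Agent.InvolCalc.StronglyEmbedded
import Cfsg.Agent.BenderSE.Dependents.Frame

/-!
A simple group with elementary abelian Sylow 2-subgroup `P`: `N(P)` is irreducible on `P`, and is strongly embedded
as soon as it contains the centralisers of the elements outside some proper subgroup of `P`.
-/

set_option autoImplicit false
set_option linter.unusedSectionVars false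
set_option linter.style.haveILetI false

namespace Cfsg.Lib.Walter.CI

open Subgroup
open scoped Pointwise commutatorElement

universe u

variable {X : Type u} [Group X] [Finite X] [IsSimpleGroup X]

theorem oddCore_bot (hna : ¬ IsMulCommutative X) : Cfsg.pPrimeCore 2 X = ⊥ := by
  haveI : (Cfsg.pPrimeCore 2 X).Normal := Cfsg.Lib.Components.pPrimeCore_normal' 2
  refine (IsSimpleGroup.eq_bot_or_eq_top_of_normal (Cfsg.pPrimeCore 2 X) inferInstance).resolve_right fun e => hna ?_
  haveI : Group.IsSolvable X := by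
    haveI := Cfsg.Agent.PF.isSolvable_of_odd (Cfsg.pPrimeCore 2 X) Cfsg.Lib.ZStarApps.odd_card_pPrimeCore
    exact Group.isSolvable_of_surjective (f := ((MulEquiv.subgroupCongr e).trans topEquiv).toMonoidHom)
      (MulEquiv.surjective _)
  exact ⟨⟨fun a b => IsSimpleGroup.comm_iff_isSolvable.2 inferInstance a b⟩⟩

theorem irreducible (hna : ¬ IsMulCommutative X) (P : Sylow 2 X)
    (hel : ∀ x ∈ (P : Subgroup X), x * x = 1) (A : Subgroup X) (hAP : A ≤ P)
    (hA : ∀ n ∈ normalizer ((P : Subgroup X) : Set X), ∀ a ∈ A, n * a * n⁻¹ ∈ A) :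
    A = ⊥ ∨ A = P := by
  haveI : Fact (Nat.Prime 2) := ⟨Nat.prime_two⟩
  have hab : ∀ x ∈ (P : Subgroup X), ∀ y ∈ (P : Subgroup X), x * y = y * x := fun x hx y hy => by
    have e1 : ∀ {w : X}, w ∈ (P : Subgroup X) → w⁻¹ = w := fun {w} hw => inv_eq_of_mul_eq_one_right (hel w hw)
    calc x * y = (x * y)⁻¹ := (e1 (mul_mem hx hy)).symm
      _ = y⁻¹ * x⁻¹ := mul_inv_rev _ _
      _ = y * x := by rw [e1 hx, e1 hy]
  set φ := (P : Subgroup X).normalizerMonoidHom with hφ
  set R := φ.range with hR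
  have hRodd : ¬ 2 ∣ Nat.card R := by
    rw [hR, ← Nat.card_congr (QuotientGroup.quotientKerEquivRange φ).toEquiv, ← index_eq_card]
    intro h
    refine (P.subtype le_normalizer).not_dvd_index (h.trans (index_dvd_of_le ?_))
    intro x hx
    rw [hφ, normalizerMonoidHom_ker, mem_subgroupOf]
    exact mem_centralizer_iff.2 fun y hy => hab y hy _ hx
  obtain ⟨C, hMC, hsup, hC⟩ := Cfsg.Lib.Coprime.MaximalInvariant.exists_invariant_complement
    (V := ↥(P : Subgroup X)) (A := R) (p := 2) (fun x y => Subtype.ext (hab x x.2 y y.2))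
    (fun x => Subtype.ext (by rw [SubgroupClass.coe_pow, pow_two]; exact hel x x.2)) hRodd R.subtype
    (A.subgroupOf (P : Subgroup X)) (fun a x hx => by
      obtain ⟨n, hn⟩ := a.2
      rw [show (R.subtype a) = φ n from hn.symm]
      exact hA n n.2 x hx)
  set B := C.map (P : Subgroup X).subtype with hB
  have hBP : B ≤ P := map_subtype_le C
  have hB' : ∀ n ∈ normalizer ((P : Subgroup X) : Set X), ∀ b ∈ B, n * b * n⁻¹ ∈ B := by
    rintro n hn _ ⟨b, hb, rfl⟩
    exact ⟨_, hC ⟨φ ⟨n, hn⟩, ⟨_, rfl⟩⟩ b hb, rfl⟩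
  have hsc : ∀ D : Subgroup X, D ≤ P → (∀ n ∈ normalizer ((P : Subgroup X) : Set X), ∀ d ∈ D, n * d * n⁻¹ ∈ D) →
      Cfsg.IsStronglyClosed D (P : Subgroup X) := by
    refine fun D hDP hD => ⟨hDP, fun x hx g hg => ?_⟩
    haveI : IsMulCommutative ↥(P : Subgroup X) := ⟨⟨fun a b => Subtype.ext (hab a a.2 b b.2)⟩⟩
    obtain ⟨n, hn, he⟩ := Sylow.conj_eq_normalizer_conj_of_mem P x g⁻¹ (hDP hx) (by rwa [inv_inv])
    rw [inv_inv] at he
    rw [he]
    simpa using hD n⁻¹ (inv_mem hn) x hx
  have hd : A ⊓ B = ⊥ := by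
    refine (eq_bot_iff_forall _).2 fun x hx => ?_
    obtain ⟨hxA, b, hb, rfl⟩ := mem_inf.1 hx
    have : b = 1 := (eq_bot_iff_forall _).1 hMC b ⟨hxA, hb⟩
    rw [this]; rfl
  have h := Cfsg.Lib.ProdFusion.product_fusion X P A B (hsc A hAP hA) (hsc B hBP hB')
    (fun a ha b hb => hab a (hAP ha) b (hBP hb)) hd
  rw [oddCore_bot hna, le_bot_iff] at h
  by_cases hA0 : A = ⊥
  · exact Or.inl hA0
  refine Or.inr (le_antisymm hAP fun x hx => ?_)
  have hA1 : normalClosure (A : Set X) = ⊤ :=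
    (IsSimpleGroup.eq_bot_or_eq_top_of_normal _ inferInstance).resolve_left fun e => hA0
      (le_bot_iff.1 (e ▸ (subset_normalClosure : (A : Set X) ⊆ _)))
  have hB0 : B = ⊥ := by
    by_contra hB0
    have hB1 : normalClosure (B : Set X) = ⊤ :=
      (IsSimpleGroup.eq_bot_or_eq_top_of_normal _ inferInstance).resolve_left fun e => hB0
        (le_bot_iff.1 (e ▸ (subset_normalClosure : (B : Set X) ⊆ _)))
    rw [hA1, hB1] at h
    refine hna (IsMulCommutative.mk (Std.Commutative.mk fun a b => ?_))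
    have := commutator_mem_commutator (mem_top a) (mem_top b)
    rw [h, mem_bot] at this
    exact commutatorElement_eq_one_iff_mul_comm.1 this
  have hC0 : C = ⊥ := map_injective (P : Subgroup X).subtype_injective (by rw [← hB, hB0, Subgroup.map_bot])
  rw [hC0, sup_bot_eq] at hsup
  exact mem_subgroupOf.1 (hsup.ge (mem_top (⟨x, hx⟩ : ↥(P : Subgroup X))))

theorem embedded_of_centralizers (hna : ¬ IsMulCommutative X) (P : Sylow 2 X)
    (hev : Even (Nat.card ↥(P : Subgroup X)))
    (hel : ∀ x ∈ (P : Subgroup X), x * x = 1) (P₀ : Subgroup X) (hP₀ : P₀ < P)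
    (hgood : ∀ y ∈ (P : Subgroup X), y ∉ P₀ → centralizer ({y} : Set X) ≤ normalizer ((P : Subgroup X) : Set X)) :
    Cfsg.IsStronglyEmbedded (normalizer ((P : Subgroup X) : Set X)) := by
  haveI : Fact (Nat.Prime 2) := ⟨Nat.prime_two⟩
  set M := normalizer ((P : Subgroup X) : Set X) with hM
  set B : Set X := {y | y ∈ (P : Subgroup X) ∧ y ≠ 1 ∧ ¬ centralizer ({y} : Set X) ≤ M} with hB
  have hBinv : ∀ n ∈ M, ∀ y ∈ B, n * y * n⁻¹ ∈ B := by
    rintro n hn y ⟨hy, hy1, hyC⟩
    refine ⟨(mem_normalizer_iff.1 hn y).1 hy, fun h => hy1 (conj_eq_one_iff.1 h), fun h => hyC fun c hc => ?_⟩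
    have hc' : Commute c y := mem_centralizer_singleton_iff.1 hc
    have : n * c * n⁻¹ ∈ centralizer ({n * y * n⁻¹} : Set X) :=
      mem_centralizer_singleton_iff.2 (hc'.map (MulAut.conj n).toMonoidHom).eq
    have := mul_mem (mul_mem (inv_mem hn) (h this)) hn
    rwa [show n⁻¹ * (n * c * n⁻¹) * n = c by group] at this
  have hBP : B ⊆ (P₀ : Set X) := fun y hy => by
    by_contra h
    exact hy.2.2 (hgood y hy.1 h)
  have hall : ∀ y ∈ (P : Subgroup X), y ≠ 1 → centralizer ({y} : Set X) ≤ M := by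
    intro y hy hy1
    by_contra hyC
    rcases irreducible hna P hel (closure B) ((closure_le _).2 fun b hb => hb.1) (fun n hn a ha => by
      have hmap : (closure B).map (MulAut.conj n).toMonoidHom ≤ closure B := by
        rw [MonoidHom.map_closure, closure_le]
        rintro _ ⟨b, hb, rfl⟩
        exact subset_closure (hBinv n hn b hb)
      exact hmap (mem_map_of_mem _ ha)) with h | h
    · have hm : y ∈ closure B := subset_closure ⟨hy, hy1, hyC⟩
      rw [h, mem_bot] at hm
      exact hy1 hm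
    · exact hP₀.not_ge (h.symm.trans_le ((closure_le P₀).2 hBP))
  have hMsyl : ∀ Q : Sylow 2 X, (Q : Subgroup X) ≤ M → Q = P := by
    intro Q hQ
    have hp := Q.isPGroup'.to_sup_of_normal_right' P.isPGroup' hQ
    have h1 := P.3 hp le_sup_right
    exact Sylow.ext (Q.3 P.isPGroup' (sup_eq_right.1 h1)).symm
  refine ⟨fun h => ?_, even_iff_two_dvd.2 (hev.two_dvd.trans (card_dvd_of_le le_normalizer)), fun g hg => ?_⟩
  · haveI : (P : Subgroup X).Normal := normalizer_eq_top_iff.1 h
    rcases IsSimpleGroup.eq_bot_or_eq_top_of_normal (P : Subgroup X) inferInstance with e | e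
    · rw [e, card_bot] at hev; exact Nat.not_even_one hev
    · refine hna ⟨⟨fun a b => ?_⟩⟩
      have e1 : ∀ w : X, w⁻¹ = w := fun w => inv_eq_of_mul_eq_one_right (hel w (e.ge (mem_top w)))
      calc a * b = (a * b)⁻¹ := (e1 _).symm
        _ = b⁻¹ * a⁻¹ := mul_inv_rev _ _
        _ = b * a := by rw [e1, e1]
  · rw [← Nat.not_even_iff_odd]
    intro hev'
    obtain ⟨x, hx, hx2⟩ := Cfsg.Lib.StrongEmb.exists_involution_of_even hev'
    have hx1 : x ≠ 1 := fun e => by rw [e, orderOf_one] at hx2; omega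
    have hmem : ∀ {R : Sylow 2 X} {w : X}, w ∈ normalizer ((R : Subgroup X) : Set X) → orderOf w = 2 →
        w ∈ (R : Subgroup X) := by
      intro R w hw hw2
      have hp : IsPGroup 2 ↥(zpowers w) := IsPGroup.of_card (n := 1) (by rw [Nat.card_zpowers, hw2, pow_one])
      exact (R.3 (hp.to_sup_of_normal_right' R.isPGroup' (zpowers_le.2 hw)) le_sup_right).le
        (mem_sup_left (mem_zpowers w))
    have hxP : x ∈ (P : Subgroup X) := hmem hx.1 hx2
    obtain ⟨y, hy, hyx⟩ := hx.2
    have hy2 : orderOf y = 2 := by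
      rw [← hx2, ← hyx, orderOf_injective _ (MulAut.conj g).injective]
    have hxQ : x ∈ ((g • P : Sylow 2 X) : Subgroup X) := by
      rw [Sylow.coe_subgroup_smul]
      exact ⟨y, hmem hy hy2, hyx⟩
    have hQab : ∀ a ∈ ((g • P : Sylow 2 X) : Subgroup X), a * x = x * a := by
      intro a ha
      rw [Sylow.coe_subgroup_smul] at ha
      obtain ⟨a', ha', rfl⟩ := ha
      rw [← hyx]
      have e1 : ∀ {w : X}, w ∈ (P : Subgroup X) → w⁻¹ = w := fun {w} hw => inv_eq_of_mul_eq_one_right (hel w hw)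
      have hcc : a' * y = y * a' := by
        calc a' * y = (a' * y)⁻¹ := (e1 (mul_mem ha' (hmem hy hy2))).symm
          _ = y⁻¹ * a'⁻¹ := mul_inv_rev _ _
          _ = y * a' := by rw [e1 ha', e1 (hmem hy hy2)]
      exact ((show Commute a' y from hcc).map (MulAut.conj g).toMonoidHom).eq
    have := hMsyl (g • P) fun a ha => hall x hxP hx1 (mem_centralizer_singleton_iff.2 (hQab a ha))
    exact hg (Sylow.smul_eq_iff_mem_normalizer.1 this)

end Cfsg.Lib.Walter.CI
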