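import Cfsg.Agent.Walter.CI.Signalizer
import Cfsg.Agent.Components.GenFitting
import Cfsg.Agent.Components.Cores
import Cfsg.Agent.S0542
import Cfsg.Agent.S4593
import Cfsg.Agent.CpQuot.Base
import Cfsg.Agent.BenderSuzuki.U3.PSU
import Cfsg.Agent.Walter.CI.Elementary
import Cfsg.Prelude.Def_EvenType

/-!
The component of the centraliser of a central involution lying in two Sylow 2-subgroups.
-/

set_option autoImplicit false
set_option linter.unusedSectionVars false
set_option linter.style.haveILetI false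

namespace Cfsg.Lib.Walter.CI

open Subgroup
open scoped Pointwise commutatorElement

universe u

section generalities

variable {G : Type u} [Group G] [Finite G]

/-- `S ∩ H` as a Sylow subgroup of a subgroup `H` subnormal in an overgroup of `S`. -/
theorem exists_sylow_of_component (S : Sylow 2 G) {C K : Subgroup G} (hSC : (S : Subgroup G) ≤ C) (hKC : K ≤ C)
    (hsn : (K.subgroupOf C).IsSubnormal) :
    ∃ P : Sylow 2 K, (P : Subgroup K) = (S : Subgroup G).subgroupOf K := by
  haveI : Fact (Nat.Prime 2) := ⟨Nat.prime_two⟩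
  obtain ⟨Q, hQ⟩ := Cfsg.Agent.S0542.result 2 (K.subgroupOf C) hsn (S.subtype hSC)
  refine ⟨(S.2.comap_subtype (K := K)).toSylow ?_, rfl⟩
  have h := Q.not_dvd_index
  rw [hQ] at h
  change ¬ 2 ∣ ((S : Subgroup G).subgroupOf C).relIndex (K.subgroupOf C) at h
  rwa [Subgroup.relIndex_subgroupOf hKC] at h

theorem solvable_of_normal_sylow {H : Type u} [Group H] [Finite H] (P : Sylow 2 H) (hP : (P : Subgroup H).Normal) :
    Group.IsSolvable H := by
  haveI : Fact (Nat.Prime 2) := ⟨Nat.prime_two⟩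
  haveI := hP
  haveI := P.2.isNilpotent
  haveI : Group.IsSolvable (H ⧸ (P : Subgroup H)) := by
    haveI := Cfsg.Agent.PF.isSolvable_of_odd (⊤ : Subgroup (H ⧸ (P : Subgroup H))) (by
      rw [card_top, ← Nat.not_even_iff_odd, even_iff_two_dvd, ← index_eq_card]; exact P.not_dvd_index)
    exact Group.isSolvable_of_surjective (f := (topEquiv (G := H ⧸ (P : Subgroup H))).toMonoidHom) topEquiv.surjective
  exact Group.isSolvable_of_ker_le_range (P : Subgroup H).subtype (QuotientGroup.mk' (P : Subgroup H)) (by simp)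

/-- an automorphism trivial modulo the centre of a perfect subgroup is trivial on it -/
theorem commute_of_mod_center {K : Subgroup G} (hperf : ⁅K, K⁆ = K) {s : G}
    (h : ∀ k ∈ K, s * k * s⁻¹ * k⁻¹ ∈ K ⊓ centralizer (K : Set G)) : s ∈ centralizer (K : Set G) := by
  rw [mem_centralizer_iff]
  intro k hk
  suffices h' : K ≤ centralizer ({s} : Set G) from mem_centralizer_singleton_iff.1 (h' hk)
  conv_lhs => rw [← hperf]
  rw [commutator_le]
  intro a ha b hb
  set x := s * a * s⁻¹ * a⁻¹ with hx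
  set y := s * b * s⁻¹ * b⁻¹ with hy
  have hxc : ∀ w ∈ K, w * x = x * w := fun w hw => mem_centralizer_iff.1 (h a ha).2 w hw
  have hyc : ∀ w ∈ K, w * y = y * w := fun w hw => mem_centralizer_iff.1 (h b hb).2 w hw
  have ea : s * a * s⁻¹ = x * a := by rw [hx]; group
  have eb : s * b * s⁻¹ = y * b := by rw [hy]; group
  have key : s * ⁅a, b⁆ * s⁻¹ = ⁅a, b⁆ := by
    rw [show s * ⁅a, b⁆ * s⁻¹ = ⁅s * a * s⁻¹, s * b * s⁻¹⁆ by simp only [commutatorElement_def]; group, ea, eb]
    simp only [commutatorElement_def]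
    calc x * a * (y * b) * (x * a)⁻¹ * (y * b)⁻¹
        = x * (a * y) * b * a⁻¹ * x⁻¹ * b⁻¹ * y⁻¹ := by group
      _ = x * y * (a * b * a⁻¹) * x⁻¹ * b⁻¹ * y⁻¹ := by rw [hyc a ha]; group
      _ = x * y * ((a * b * a⁻¹) * x⁻¹) * b⁻¹ * y⁻¹ := by group
      _ = x * y * (x⁻¹ * (a * b * a⁻¹)) * b⁻¹ * y⁻¹ := by
        rw [((show Commute (a * b * a⁻¹) x from hxc _ (mul_mem (mul_mem ha hb) (inv_mem ha))).inv_right).eq]
      _ = x * (y * x⁻¹) * (a * b * a⁻¹ * b⁻¹) * y⁻¹ := by group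
      _ = y * ((a * b * a⁻¹ * b⁻¹) * y⁻¹) := by
        rw [((show Commute y x from hxc _ (h b hb).1).inv_right).eq]; group
      _ = y * (y⁻¹ * (a * b * a⁻¹ * b⁻¹)) := by
        rw [((show Commute (a * b * a⁻¹ * b⁻¹) y from hyc _
          (mul_mem (mul_mem (mul_mem ha hb) (inv_mem ha)) (inv_mem hb))).inv_right).eq]
      _ = a * b * a⁻¹ * b⁻¹ := by group
  exact mem_centralizer_singleton_iff.2 (mul_inv_eq_iff_eq_mul.1 key).symm

theorem le_of_perfect_solvable {K N : Subgroup G} (hK : ⁅K, K⁆ = K) (hKne : K ≠ ⊥) (hN : Group.IsSolvable N) :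
    ¬ K ≤ N := by
  intro hle
  haveI := Cfsg.Lib.Coprime.isSolvable_of_le hle hN
  haveI : Nontrivial K := K.nontrivial_iff_ne_bot.2 hKne
  refine (Group.IsSolvable.commutator_lt_top_of_nontrivial K).ne (map_injective K.subtype_injective ?_)
  rw [_root_.commutator_def, map_commutator, ← MonoidHom.range_eq_map, range_subtype, hK]

theorem comp_of_perfect {C K : Subgroup G} (h : Cfsg.IsComponentOf K C) : ⁅K, K⁆ = K := by
  have h1 := Cfsg.Lib.Components.comp_perfect h.2
  have h2 := congrArg (Subgroup.map C.subtype) h1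
  rwa [map_commutator, map_subgroupOf_eq_of_le h.1] at h2

theorem comp_not_solvable {C K : Subgroup G} (h : Cfsg.IsComponentOf K C) : ¬ Group.IsSolvable K := fun hs =>
  Cfsg.Lib.Components.comp_not_isSolvable h.2
    (Group.isSolvable_of_surjective (f := (subgroupOfEquivOfLe h.1).symm.toMonoidHom)
      (subgroupOfEquivOfLe h.1).symm.surjective)

theorem comp_qs {C K : Subgroup G} (h : Cfsg.IsComponentOf K C) : Cfsg.IsQuasisimple ↥K :=
  Cfsg.Lib.Components.qs_congr' (subgroupOfEquivOfLe h.1) h.2.2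

theorem comp_ne_bot {C K : Subgroup G} (h : Cfsg.IsComponentOf K C) : K ≠ ⊥ := fun e =>
  Cfsg.Lib.Components.comp_ne_bot h.2 (by rw [e, bot_subgroupOf])

theorem comp_conj {C K : Subgroup G} (h : Cfsg.IsComponentOf K C) {g : G} (hg : g ∈ C) :
    Cfsg.IsComponentOf (K.map (MulAut.conj g).toMonoidHom) C := by
  have h1 := Cfsg.Lib.Components.comp_conj h.2 ⟨g, hg⟩
  refine ⟨fun x ⟨k, hk, e⟩ => e ▸ mul_mem (mul_mem hg (h.1 hk)) (inv_mem hg), ?_⟩
  convert h1 using 1
  ext x
  simp only [mem_subgroupOf, Subgroup.mem_map]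
  constructor
  · rintro ⟨k, hk, e⟩
    exact ⟨⟨k, h.1 hk⟩, hk, Subtype.ext e⟩
  · rintro ⟨k, hk, e⟩
    exact ⟨k, hk, congrArg Subtype.val e⟩

theorem comp_commute {C K L : Subgroup G} (hK : Cfsg.IsComponentOf K C) (hL : Cfsg.IsComponentOf L C) (h : K ≠ L) :
    ∀ k ∈ K, ∀ l ∈ L, k * l = l * k := by
  have h1 : ⁅K.subgroupOf C, L.subgroupOf C⁆ = ⊥ := Cfsg.Lib.Components.comp_commute hK.2 hL.2 fun e => h (by
    rw [← map_subgroupOf_eq_of_le hK.1, e, map_subgroupOf_eq_of_le hL.1])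
  intro k hk l hl
  have := commutator_mem_commutator (show (⟨k, hK.1 hk⟩ : C) ∈ K.subgroupOf C from hk)
    (show (⟨l, hL.1 hl⟩ : C) ∈ L.subgroupOf C from hl)
  rw [h1, mem_bot] at this
  exact congrArg Subtype.val (commutatorElement_eq_one_iff_mul_comm.1 this)

end generalities

variable {G : Type u} [Group G] [Finite G]

section simple

variable [IsSimpleGroup G] (hna : ¬ IsMulCommutative G) (hG : IsCI G) (S : Sylow 2 G)
  (hS : ¬ IsMulCommutative ↥(S : Subgroup G))

/-- A group normalised by `S` with no component and central `2`-core has the Sylow subgroup `S ∩ H` normal. -/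
theorem normal_inf_of_no_component (hna : ¬ IsMulCommutative G) (hG : IsCI G)
    (hS : ¬ IsMulCommutative ↥(S : Subgroup G)) (H : Subgroup G)
    (hSH : (S : Subgroup G) ≤ normalizer (H : Set G)) (P : Sylow 2 H)
    (hP : (P : Subgroup H) = (S : Subgroup G).subgroupOf H) (hE : Cfsg.layer ↥H = ⊥)
    (hO2 : ∀ x ∈ Cfsg.pCore 2 ↥H, ∀ y ∈ (P : Subgroup H), x * y = y * x) :
    (P : Subgroup H).Normal := by
  haveI : Fact (Nat.Prime 2) := ⟨Nat.prime_two⟩
  have hPF : (P : Subgroup H) ≤ Cfsg.fittingSubgroup ↥H := by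
    refine le_trans (fun y hy => ?_) ((Cfsg.Lib.Components.centralizer_fitting_le_iff).2 hE)
    rw [← zpowers_le, le_centralizer_iff, Cfsg.Lib.Components.fitting_eq_iSup_pCore]
    refine iSup_le fun p => ?_
    rw [← le_centralizer_iff, zpowers_le]
    by_cases hp2 : p.1 = 2
    · rw [hp2]
      exact mem_centralizer_iff.2 fun x hx => hO2 x hx y hy
    haveI := Fact.mk p.2
    set W := (Cfsg.pCore p.1 ↥H).map H.subtype with hW
    have hWo : Odd (Nat.card W) := by
      obtain ⟨k, hk⟩ := IsPGroup.iff_card.1 ((Cfsg.Lib.Components.isPGroup_pCore (G := ↥H) p.1).map H.subtype)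
      rw [hW, hk]
      exact (p.2.odd_of_ne_two hp2).pow
    have hSW : (S : Subgroup G) ≤ normalizer (W : Set G) := by
      intro s hs
      refine mem_normalizer_fintype fun w hw => ?_
      obtain ⟨x, hx, rfl⟩ := hw
      let e : H ≃* H :=
        { toFun := fun v => ⟨s * v * s⁻¹, (mem_normalizer_iff.1 (hSH hs) v).1 v.2⟩
          invFun := fun v => ⟨s⁻¹ * v * s, (mem_normalizer_iff''.1 (hSH hs) v).1 v.2⟩
          left_inv := fun v => Subtype.ext (show s⁻¹ * (s * v * s⁻¹) * s = v by group)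
          right_inv := fun v => Subtype.ext (show s * (s⁻¹ * v * s) * s⁻¹ = v by group)
          map_mul' := fun v w => Subtype.ext (show s * (v * w : G) * s⁻¹ = (s * v * s⁻¹) * (s * w * s⁻¹) by group) }
      refine ⟨e x, ?_, rfl⟩
      haveI : ((Cfsg.pCore p.1 ↥H).map e.toMonoidHom).Normal :=
        (Cfsg.Lib.Components.pCore_normal_and_isPGroup p.1).1.map e.toMonoidHom e.surjective
      exact Cfsg.Lib.Components.le_pCore ((Cfsg.Lib.Components.isPGroup_pCore p.1).map e.toMonoidHom)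
        (mem_map_of_mem _ hx)
    have hy' : (y : G) ∈ (S : Subgroup G) := by rw [hP] at hy; exact hy
    exact mem_centralizer_iff.2 fun x hx => Subtype.ext
      (mem_centralizer_iff.1 (signalizer hna hG S hS W hWo hSW hy') x (mem_map_of_mem H.subtype hx))
  -- the Sylow subgroup of a nilpotent normal subgroup
  set F := Cfsg.fittingSubgroup ↥H
  haveI : F.Normal := Cfsg.Lib.Components.normal_of_mem_sSup_normal (fun N hN => hN.1)
  haveI := Cfsg.Lib.Components.isNilpotent_fitting (G := ↥H)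
  have hnF : ((P.subtype hPF : Sylow 2 F) : Subgroup F).Normal :=
    (P.subtype hPF).normal_of_normalizerCondition Group.normalizerCondition_of_isNilpotent
  haveI := Sylow.unique_of_normal (P.subtype hPF) hnF
  haveI : ((P.subtype hPF : Sylow 2 F) : Subgroup F).Characteristic := inferInstance
  have hN := @ConjAct.normal_of_characteristic_of_normal _ _ F inferInstance
    ((P.subtype hPF : Sylow 2 F) : Subgroup F) inferInstance
  rwa [Sylow.coe_subtype, map_subgroupOf_eq_of_le hPF] at hN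

include hna hG hS

/-- a component exists -/
theorem exists_component {z : G} (hz : z ∈ Zc S) {T : Sylow 2 G} (hT : T ≠ S) (hzT : z ∈ (T : Subgroup G)) :
    ∃ K : Subgroup G, Cfsg.IsComponentOf K (centralizer ({z} : Set G)) := by
  haveI : Fact (Nat.Prime 2) := ⟨Nat.prime_two⟩
  set C := centralizer ({z} : Set G) with hC
  have hSC : (S : Subgroup G) ≤ C := fun s hs => mem_centralizer_singleton_iff.2 ((mem_Zc.1 hz).2 s hs)
  have hTC : (T : Subgroup G) ≤ C := fun t ht => mem_centralizer_singleton_iff.2 (hG T S hT z hzT hz.1 t ht)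
  by_contra hno
  push Not at hno
  have hE : Cfsg.layer ↥C = ⊥ := by
    rw [Cfsg.layer, sSup_eq_bot]
    intro K hK
    exfalso
    refine hno (K.map C.subtype) ⟨map_subtype_le K, ?_⟩
    have e : (K.map C.subtype).subgroupOf C = K := comap_map_eq_self_of_injective C.subtype_injective K
    rw [e]
    exact hK
  haveI : (Cfsg.pCore 2 ↥C).Normal := (Cfsg.Lib.Components.pCore_normal_and_isPGroup 2).1
  have hn := normal_inf_of_no_component S hna hG hS C (hSC.trans le_normalizer) (S.subtype hSC) rfl hE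
    fun x hx y hy => Subtype.ext (hG S T (Ne.symm hT) x
      ((Cfsg.Lib.Components.isPGroup_pCore 2).le_sylow_of_normal (S.subtype hSC) hx)
      ((Cfsg.Lib.Components.isPGroup_pCore 2).le_sylow_of_normal (T.subtype hTC) hx) y hy).symm
  haveI := Sylow.unique_of_normal (S.subtype hSC) hn
  exact hT (Sylow.subtype_injective (Subsingleton.elim (T.subtype hTC) (S.subtype hSC)))

end simple

section component

variable (hG : IsCI G) (S : Sylow 2 G) (hS : ¬ IsMulCommutative ↥(S : Subgroup G))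
include hG hS

variable {z : G} (hz : z ∈ Zc S) {K : Subgroup G} (hK : Cfsg.IsComponentOf K (centralizer ({z} : Set G)))
include hz hK

theorem sylow_component : ∃ P : Sylow 2 K, (P : Subgroup K) = (S : Subgroup G).subgroupOf K :=
  exists_sylow_of_component S (fun s hs => mem_centralizer_singleton_iff.2 ((mem_Zc.1 hz).2 s hs)) hK.1 hK.2.1

/-- some element of `K` moves `S ∩ K` -/
theorem exists_moved : ∃ k ∈ K, ((k • S : Sylow 2 G) : Subgroup G) ⊓ K ≠ (S : Subgroup G) ⊓ K := by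
  haveI : Fact (Nat.Prime 2) := ⟨Nat.prime_two⟩
  by_contra h
  push Not at h
  obtain ⟨P, hP⟩ := sylow_component hG S hS hz hK
  refine comp_not_solvable hK (solvable_of_normal_sylow P ⟨fun x hx k => ?_⟩)
  rw [hP, mem_subgroupOf] at hx ⊢
  have hmem : (k : G) * x * (k : G)⁻¹ ∈ (((k : G) • S : Sylow 2 G) : Subgroup G) ⊓ K := by
    refine mem_inf.2 ⟨?_, mul_mem (mul_mem k.2 x.2) (inv_mem k.2)⟩
    rw [Sylow.coe_subgroup_smul]
    exact ⟨x, hx, rfl⟩
  rw [h k k.2] at hmem
  exact (mem_inf.1 hmem).1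

theorem moved_ne {k : G} (h : ((k • S : Sylow 2 G) : Subgroup G) ⊓ K ≠ (S : Subgroup G) ⊓ K) : k • S ≠ S :=
  fun e => h (by rw [e])

/-- what centralises `K` in `S` is central -/
theorem centralizer_le_Zc : (S : Subgroup G) ⊓ centralizer (K : Set G) ≤ Zc S := by
  obtain ⟨k, hk, hne⟩ := exists_moved hG S hS hz hK
  intro s hs
  refine mem_Zc_of_inf hG (Ne.symm (moved_ne hG S hS hz hK hne)) hs.1 ?_
  rw [Sylow.coe_subgroup_smul, Subgroup.mem_pointwise_smul_iff_inv_smul_mem]
  have : k⁻¹ * s * k = s := by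
    rw [mul_assoc, ← mem_centralizer_iff.1 hs.2 k hk, inv_mul_cancel_left]
  rw [← map_inv, MulAut.smul_def, MulAut.conj_apply, inv_inv, this]
  exact hs.1

theorem le_normalizer_component : (S : Subgroup G) ≤ normalizer (K : Set G) := by
  haveI : Fact (Nat.Prime 2) := ⟨Nat.prime_two⟩
  have hSC : (S : Subgroup G) ≤ centralizer ({z} : Set G) := fun s hs =>
    mem_centralizer_singleton_iff.2 ((mem_Zc.1 hz).2 s hs)
  intro s hs
  set L := K.map (MulAut.conj s).toMonoidHom with hL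
  have hLc : Cfsg.IsComponentOf L (centralizer ({z} : Set G)) := comp_conj hK (hSC hs)
  by_cases he : K = L
  · refine mem_normalizer_fintype fun x hx => ?_
    rw [SetLike.mem_coe, he]
    exact mem_map_of_mem _ hx
  exfalso
  have hcom := comp_commute hK hLc he
  obtain ⟨k, hk, hne⟩ := exists_moved hG S hS hz hK
  -- `S ∩ L` is central in `S`, so `S ∩ K = S ∩ L` is central in `K`
  have hLZ : (S : Subgroup G) ⊓ L ≤ Zc S := by
    intro x hx
    refine mem_Zc_of_inf hG (Ne.symm (moved_ne hG S hS hz hK hne)) hx.1 ?_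
    rw [Sylow.coe_subgroup_smul, Subgroup.mem_pointwise_smul_iff_inv_smul_mem]
    have : k⁻¹ * x * k = x := by rw [mul_assoc, ← hcom k hk x hx.2, inv_mul_cancel_left]
    rw [← map_inv, MulAut.smul_def, MulAut.conj_apply, inv_inv, this]
    exact hx.1
  obtain ⟨P, hP⟩ := sylow_component hG S hS hz hK
  refine comp_not_solvable hK (solvable_of_normal_sylow P ⟨fun x hx y => ?_⟩)
  have hxS : (x : G) ∈ (S : Subgroup G) := by rwa [hP, mem_subgroupOf] at hx
  have h1 : s * x * s⁻¹ ∈ (S : Subgroup G) ⊓ L :=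
    mem_inf.2 ⟨mul_mem (mul_mem hs hxS) (inv_mem hs), mem_map_of_mem _ x.2⟩
  have h2 : s * x * s⁻¹ = x := by
    have e := (mem_Zc.1 (hLZ h1)).2 s hs
    have := congrArg (fun w => s⁻¹ * w * s) (show s * x * s⁻¹ = s * x * s⁻¹ from rfl)
    calc s * x * s⁻¹ = s⁻¹ * (s * (s * x * s⁻¹)) := by group
      _ = s⁻¹ * (s * x * s⁻¹ * s) := by rw [e]
      _ = x := by group
  have hyx : (y : G) * x = x * y := hcom y y.2 x (h2 ▸ (mem_inf.1 h1).2)
  have : y * x * y⁻¹ = x := Subtype.ext (show (y : G) * x * (y : G)⁻¹ = x by rw [hyx, mul_inv_cancel_right])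
  rwa [this]

/-- `S ∩ K` is not central in `S` -/
theorem not_le_Zc : ¬ (S : Subgroup G) ⊓ K ≤ Zc S := by
  haveI : Fact (Nat.Prime 2) := ⟨Nat.prime_two⟩
  intro hQ
  obtain ⟨s, hsS, hsZ⟩ : ∃ s ∈ (S : Subgroup G), s ∉ Zc S := by
    by_contra h
    push Not at h
    exact hS ⟨⟨fun a b => Subtype.ext ((mem_Zc.1 (h b b.2)).2 a a.2)⟩⟩
  have hsK := le_normalizer_component hG S hS hz hK hsS
  have hq := comp_qs hK
  obtain ⟨P, hP⟩ := sylow_component hG S hS hz hK
  haveI := hq.2
  set π := QuotientGroup.mk' (center ↥K) with hπ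
  have hπs : Function.Surjective π := QuotientGroup.mk'_surjective _
  set Pb := P.mapSurjective hπs with hPb
  have hnab : ¬ IsMulCommutative (↥K ⧸ center ↥K) := Cfsg.Lib.CpQuot.not_commutative hq
  have hZ : center (↥K ⧸ center ↥K) = ⊥ :=
    (IsSimpleGroup.eq_bot_or_eq_top_of_normal _ inferInstance).resolve_right fun e => hnab
      ⟨⟨fun a b => mem_center_iff.1 (e.ge (mem_top b)) a⟩⟩
  have hab : IsMulCommutative ↥(Pb : Subgroup (↥K ⧸ center ↥K)) := by
    refine ⟨⟨fun a b => Subtype.ext ?_⟩⟩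
    obtain ⟨a', ha', ha⟩ := (show (a : ↥K ⧸ center ↥K) ∈ (P : Subgroup K).map π from a.2)
    obtain ⟨b', hb', hb⟩ := (show (b : ↥K ⧸ center ↥K) ∈ (P : Subgroup K).map π from b.2)
    show (a : ↥K ⧸ center ↥K) * b = b * a
    rw [← ha, ← hb, ← map_mul, ← map_mul]
    refine congrArg π (Subtype.ext ?_)
    replace ha' : (a' : G) ∈ (S : Subgroup G) := hP.le ha'
    replace hb' : (b' : G) ∈ (S : Subgroup G) := hP.le hb'
    exact (mem_Zc.1 (hQ (show (b' : G) ∈ (S : Subgroup G) ⊓ K from ⟨hb', b'.2⟩))).2 a' ha'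
  -- the automorphism induced by `s`
  let σ : ↥K ≃* ↥K :=
    { toFun := fun v => ⟨s * v * s⁻¹, (mem_normalizer_iff.1 hsK v).1 v.2⟩
      invFun := fun v => ⟨s⁻¹ * v * s, (mem_normalizer_iff''.1 hsK v).1 v.2⟩
      left_inv := fun v => Subtype.ext (show s⁻¹ * (s * v * s⁻¹) * s = v by group)
      right_inv := fun v => Subtype.ext (show s * (s⁻¹ * v * s) * s⁻¹ = v by group)
      map_mul' := fun v w => Subtype.ext (show s * (v * w : G) * s⁻¹ = (s * v * s⁻¹) * (s * w * s⁻¹) by group) }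
  have hσc : (center ↥K).map σ.toMonoidHom = center ↥K := Cfsg.Lib.BenderSuzuki.U3.center_map σ
  let α : MulAut (↥K ⧸ center ↥K) := QuotientGroup.congr (center ↥K) (center ↥K) σ hσc
  have hα : ∀ v : ↥K, α (π v) = π (σ v) := fun v => rfl
  have hαpow : ∀ (n : ℕ) (v : ↥K), ((α ^ n) (π v) : ↥K ⧸ center ↥K) = π ((σ ^ n : MulAut ↥K) v) := by
    intro n
    induction n with
    | zero => intro v; rfl
    | succ n ih => intro v; rw [pow_succ, pow_succ, MulAut.mul_apply, MulAut.mul_apply, hα, ih]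
  have hσpow : ∀ (n : ℕ) (v : ↥K), (((σ ^ n : MulAut ↥K) v : ↥K) : G) = s ^ n * v * (s ^ n)⁻¹ := by
    intro n
    induction n with
    | zero => intro v; simp
    | succ n ih =>
      intro v
      rw [pow_succ σ, MulAut.mul_apply, ih]
      show s ^ n * (s * v * s⁻¹) * (s ^ n)⁻¹ = _
      rw [pow_succ]; group
  obtain ⟨j, hj⟩ := S.2.exists_orderOf_eq_pow ⟨s, hsS⟩
  rw [Subgroup.orderOf_mk] at hj
  have hα1 : α ^ 2 ^ j = 1 := by
    refine MulEquiv.ext fun x => ?_
    obtain ⟨v, rfl⟩ := hπs x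
    rw [hαpow]
    refine congrArg π (Subtype.ext ?_)
    rw [hσpow, ← hj, pow_orderOf_eq_one]; simp
  obtain ⟨i, -, hi⟩ := (Nat.dvd_prime_pow Nat.prime_two).1 (orderOf_dvd_of_pow_eq_one hα1)
  obtain ⟨g, hg⟩ := Cfsg.Agent.S4593.result hZ (oddCore_bot hnab) Pb hab α ⟨i, hi⟩ (by
    intro x hx
    obtain ⟨v, hv, rfl⟩ := (show x ∈ (P : Subgroup K).map π from hx)
    rw [hα]
    refine congrArg π (Subtype.ext ?_)
    replace hv : (v : G) ∈ (S : Subgroup G) := hP.le hv
    show s * v * s⁻¹ = v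
    rw [(mem_Zc.1 (hQ (show (v : G) ∈ (S : Subgroup G) ⊓ K from ⟨hv, v.2⟩))).2 s hsS, mul_inv_cancel_right])
  -- `g` lies in the Sylow subgroup
  have hgpow : ∀ (n : ℕ) (x : ↥K ⧸ center ↥K), (α ^ n) x = g ^ n * x * (g ^ n)⁻¹ := by
    intro n
    induction n with
    | zero => intro x; simp
    | succ n ih => intro x; rw [pow_succ α, MulAut.mul_apply, hg, ih, pow_succ]; group
  have hg2 : g ^ 2 ^ j = 1 := by
    have : g ^ 2 ^ j ∈ center (↥K ⧸ center ↥K) := mem_center_iff.2 fun x => by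
      have h1 := hgpow (2 ^ j) x
      rw [hα1, MulAut.one_apply] at h1
      conv_lhs => rw [h1]
      group
    rwa [hZ, mem_bot] at this
  have hgfix : ∀ x ∈ (Pb : Subgroup (↥K ⧸ center ↥K)), g * x = x * g := by
    intro x hx
    obtain ⟨v, hv, rfl⟩ := (show x ∈ (P : Subgroup K).map π from hx)
    have h1 := hg (π v)
    rw [hα] at h1
    have h2 : σ v = v := Subtype.ext (by
      replace hv : (v : G) ∈ (S : Subgroup G) := hP.le hv
      show s * v * s⁻¹ = v
      rw [(mem_Zc.1 (hQ (show (v : G) ∈ (S : Subgroup G) ⊓ K from ⟨hv, v.2⟩))).2 s hsS, mul_inv_cancel_right])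
    rw [h2] at h1
    exact (eq_mul_inv_iff_mul_eq.1 h1).symm
  have hgP : g ∈ (Pb : Subgroup (↥K ⧸ center ↥K)) := by
    have hp : IsPGroup 2 ↥(zpowers g) := by
      obtain ⟨k, -, hk⟩ := (Nat.dvd_prime_pow Nat.prime_two).1 (orderOf_dvd_of_pow_eq_one hg2)
      exact IsPGroup.of_card (n := k) (by rw [Nat.card_zpowers, hk])
    have hle : zpowers g ≤ normalizer ((Pb : Subgroup (↥K ⧸ center ↥K)) : Set (↥K ⧸ center ↥K)) :=
      zpowers_le.2 (centralizer_le_normalizer _ (mem_centralizer_iff.2 fun x hx => (hgfix x hx).symm))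
    exact (Pb.3 (hp.to_sup_of_normal_right' Pb.isPGroup' hle) le_sup_right).le (mem_sup_left (mem_zpowers g))
  obtain ⟨q, hq', hqg⟩ := (show g ∈ (P : Subgroup K).map π from hgP)
  replace hq' : (q : G) ∈ (S : Subgroup G) := hP.le hq'
  set s' := (q : G)⁻¹ * s with hs'
  have hs'C : s' ∈ centralizer (K : Set G) := by
    refine commute_of_mod_center (comp_of_perfect hK) fun k hk => ?_
    have h1 := hg (π ⟨k, hk⟩)
    rw [hα, ← hqg, ← map_inv, ← map_mul, ← map_mul] at h1
    have h2 : (σ ⟨k, hk⟩)⁻¹ * (q * ⟨k, hk⟩ * q⁻¹) ∈ center ↥K := QuotientGroup.eq.1 h1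
    have h3 := mem_center_iff.1 h2
    set c := (σ ⟨k, hk⟩)⁻¹ * (q * ⟨k, hk⟩ * q⁻¹) with hc
    have hcq : (c : G) * q = q * c := (congrArg Subtype.val (h3 q)).symm
    have hkey : s * k * s⁻¹ = (q : G) * k * (q : G)⁻¹ * (c : G)⁻¹ := by
      rw [hc]; push_cast
      show s * k * s⁻¹ = (q : G) * k * (q : G)⁻¹ * ((s * k * s⁻¹)⁻¹ * ((q : G) * k * (q : G)⁻¹))⁻¹
      group
    have hval : s' * k * s'⁻¹ * k⁻¹ = (c : G)⁻¹ := by
      calc s' * k * s'⁻¹ * k⁻¹ = (q : G)⁻¹ * (s * k * s⁻¹) * q * k⁻¹ := by rw [hs']; group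
        _ = (q : G)⁻¹ * ((q : G) * k * (q : G)⁻¹ * (c : G)⁻¹) * q * k⁻¹ := by rw [hkey]
        _ = k * (q : G)⁻¹ * ((c : G)⁻¹ * q) * k⁻¹ := by group
        _ = k * (q : G)⁻¹ * (q * (c : G)⁻¹) * k⁻¹ := by
          rw [((show Commute (c : G) q from hcq).inv_left).eq]
        _ = k * (c : G)⁻¹ * k⁻¹ := by group
        _ = (c : G)⁻¹ := by
          rw [((show Commute (c : G) k from (congrArg Subtype.val (h3 ⟨k, hk⟩)).symm).inv_left).symm.eq,
            mul_inv_cancel_right]
    rw [hval]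
    refine mem_inf.2 ⟨inv_mem c.2, (centralizer (K : Set G)).inv_mem (mem_centralizer_iff.2 fun w hw => ?_)⟩
    exact congrArg Subtype.val (h3 ⟨w, hw⟩)
  have hZ' := centralizer_le_Zc hG S hS hz hK
    (show s' ∈ (S : Subgroup G) ⊓ centralizer (K : Set G) from mem_inf.2 ⟨mul_mem (inv_mem hq') hsS, hs'C⟩)
  refine hsZ ?_
  have h2 := mul_mem (hQ (show (q : G) ∈ (S : Subgroup G) ⊓ K from ⟨hq', q.2⟩)) hZ'
  rwa [hs', mul_inv_cancel_left] at h2

/-- there is no other component -/
theorem component_unique {L : Subgroup G} (hL : Cfsg.IsComponentOf L (centralizer ({z} : Set G))) : L = K := by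
  by_contra hne
  obtain ⟨l, hl, hlne⟩ := exists_moved hG S hS hz hL
  refine not_le_Zc hG S hS hz hK fun x hx => mem_Zc_of_inf hG (Ne.symm (moved_ne hG S hS hz hL hlne)) hx.1 ?_
  rw [Sylow.coe_subgroup_smul, Subgroup.mem_pointwise_smul_iff_inv_smul_mem]
  have : l⁻¹ * x * l = x := by
    rw [mul_assoc, ← comp_commute hL hK hne l hl x hx.2, inv_mul_cancel_left]
  rw [← map_inv, MulAut.smul_def, MulAut.conj_apply, inv_inv, this]
  exact hx.1

theorem centralizer_le_normalizer_component :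
    centralizer ({z} : Set G) ≤ normalizer (K : Set G) := by
  intro g hg
  refine mem_normalizer_fintype fun x hx => ?_
  rw [SetLike.mem_coe, ← component_unique hG S hS hz hK (comp_conj hK hg)]
  exact mem_map_of_mem _ hx

/-- an element of `S` normalising another Sylow subgroup of `K` is central -/
theorem stabiliser_central {k : G} (hk : k ∈ K)
    (hne : ((k • S : Sylow 2 G) : Subgroup G) ⊓ K ≠ (S : Subgroup G) ⊓ K) {s : G} (hs : s ∈ (S : Subgroup G))
    (hn : s ∈ normalizer ((((k • S : Sylow 2 G) : Subgroup G) ⊓ K : Subgroup G) : Set G)) : s ∈ Zc S := by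
  haveI : Fact (Nat.Prime 2) := ⟨Nat.prime_two⟩
  set R := ((k • S : Sylow 2 G) : Subgroup G) ⊓ K with hR
  have hp : IsPGroup 2 ↥(zpowers s ⊔ R) :=
    (S.2.to_le (zpowers_le.2 hs)).to_sup_of_normal_right' ((k • S).2.to_le inf_le_left) (zpowers_le.2 hn)
  obtain ⟨T, hT⟩ := hp.exists_le_sylow
  refine mem_Zc_of_inf hG (fun e : S = T => hne ?_) hs (hT (mem_sup_left (mem_zpowers s)))
  subst e
  refine eq_of_le_of_card_ge (le_inf ((le_sup_right : R ≤ zpowers s ⊔ R).trans hT) inf_le_right) (le_of_eq ?_)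
  have hkK : k ∈ normalizer (K : Set G) := le_normalizer hk
  have e : ((S : Subgroup G) ⊓ K).map (MulAut.conj k).toMonoidHom = R := by
    rw [map_inf _ _ _ (MulAut.conj k).injective, hR, Sylow.coe_subgroup_smul]
    congr 1
    exact Cfsg.Lib.Coprime.conjMap_eq_self hkK
  rw [← e, card_map_of_injective (MulAut.conj k).injective]

end component

end Cfsg.Lib.Walter.CI
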