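import Cfsg.Prelude.Def_TwoFusion
import Cfsg.Prelude.Def_Local
import Cfsg.Prelude.Def_Involutions
import Cfsg.Agent.S3183
import Cfsg.Agent.BenderSE.Dependents.Frame
import Cfsg.Agent.Coprime.Basic

/-!
Groups in which every intersection of two Sylow 2-subgroups is central (rows 3181, 3182): first properties,
inheritance to subgroups and to central quotients, the case in which no involution lies in two Sylow subgroups.
-/

set_option autoImplicit false
set_option linter.unusedSectionVars false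
set_option linter.style.haveILetI false

namespace Cfsg.Lib.Walter.CI

open Subgroup
open scoped Pointwise

universe u

variable {G : Type u} [Group G] [Finite G]

/-- The intersection of two different Sylow 2-subgroups is central in both. -/
def IsCI (G : Type u) [Group G] : Prop :=
  ∀ S T : Sylow 2 G, S ≠ T → ∀ x ∈ (S : Subgroup G), x ∈ (T : Subgroup G) → ∀ s ∈ (S : Subgroup G), s * x = x * s

/-- `x` is a central element of `S`. -/
def Zc (S : Sylow 2 G) : Subgroup G := (S : Subgroup G) ⊓ centralizer ((S : Subgroup G) : Set G)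

theorem mem_Zc {S : Sylow 2 G} {x : G} :
    x ∈ Zc S ↔ x ∈ (S : Subgroup G) ∧ ∀ s ∈ (S : Subgroup G), s * x = x * s := Iff.rfl

theorem isCI_of_hyp
    (hCI : ∀ S T : Sylow 2 G, S ≠ T → ∃ U : Sylow 2 G,
      (S : Subgroup G) ⊓ (T : Subgroup G) ≤ (Subgroup.center ↥(U : Subgroup G)).map (U : Subgroup G).subtype) :
    IsCI G := by
  intro S T hne x hxS hxT s hs
  obtain ⟨z, hz, rfl⟩ := (((Cfsg.Agent.S3183.result hCI S).2 T (Ne.symm hne)) ⟨hxS, hxT⟩).1
  exact congrArg Subtype.val (mem_center_iff.1 hz ⟨s, hs⟩)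

variable (hG : IsCI G)
include hG

theorem mem_Zc_of_inf {S T : Sylow 2 G} (hne : S ≠ T) {x : G} (hxS : x ∈ (S : Subgroup G))
    (hxT : x ∈ (T : Subgroup G)) : x ∈ Zc S :=
  mem_Zc.2 ⟨hxS, hG S T hne x hxS hxT⟩

/-- an element outside the centre lies in one Sylow subgroup only -/
theorem eq_of_noncentral {S T : Sylow 2 G} {x : G} (hxS : x ∈ (S : Subgroup G)) (hx : x ∉ Zc S)
    (hxT : x ∈ (T : Subgroup G)) : T = S := by
  by_contra h
  exact hx (mem_Zc_of_inf hG (Ne.symm h) hxS hxT)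

theorem mem_normalizer_of_conj {S : Sylow 2 G} {x g : G} (hxS : x ∈ (S : Subgroup G)) (hx : x ∉ Zc S)
    (hg : g⁻¹ * x * g ∈ (S : Subgroup G)) : g ∈ normalizer ((S : Subgroup G) : Set G) := by
  refine Sylow.smul_eq_iff_mem_normalizer.1 (eq_of_noncentral hG hxS hx ?_)
  rw [Sylow.coe_subgroup_smul, Subgroup.mem_pointwise_smul_iff_inv_smul_mem]
  simpa [MulAut.smul_def] using hg

theorem centralizer_le {S : Sylow 2 G} {x : G} (hxS : x ∈ (S : Subgroup G)) (hx : x ∉ Zc S) :
    centralizer ({x} : Set G) ≤ normalizer ((S : Subgroup G) : Set G) := fun g hg => by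
  refine mem_normalizer_of_conj hG hxS hx ?_
  rw [mul_assoc, ← mem_centralizer_singleton_iff.1 hg, inv_mul_cancel_left]
  exact hxS

/-- the subgroups inherit the property -/
theorem IsCI.subgroup (H : Subgroup G) : IsCI H := by
  haveI : Fact (Nat.Prime 2) := ⟨Nat.prime_two⟩
  intro S T hne x hxS hxT s hs
  obtain ⟨S', hS'⟩ := (S.2.map H.subtype).exists_le_sylow
  obtain ⟨T', hT'⟩ := (T.2.map H.subtype).exists_le_sylow
  have hle : ∀ {R : Sylow 2 H} {R' : Sylow 2 G}, (R : Subgroup H).map H.subtype ≤ R' →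
      ((R' : Subgroup G).comap H.subtype) = R := fun {R R'} h =>
    (R.3 (R'.2.comap_of_injective _ H.subtype_injective) (map_le_iff_le_comap.1 h))
  have hne' : S' ≠ T' := by
    rintro rfl
    exact hne (Sylow.ext ((hle hS').symm.trans (hle hT')))
  exact Subtype.ext (hG S' T' hne' x (hS' (mem_map_of_mem _ hxS)) (hT' (mem_map_of_mem _ hxT)) s
    (hS' (mem_map_of_mem _ hs)))

/-- central quotients inherit the property -/
theorem IsCI.quotient (Z : Subgroup G) [Z.Normal] (hZ : Z ≤ center G) : IsCI (G ⧸ Z) := by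
  haveI : Fact (Nat.Prime 2) := ⟨Nat.prime_two⟩
  set π := QuotientGroup.mk' Z with hπ
  have hπs : Function.Surjective π := QuotientGroup.mk'_surjective Z
  intro S T hne x hxS hxT y hy
  obtain ⟨S₀, rfl⟩ := Sylow.mapSurjective_surjective hπs 2 S
  obtain ⟨T₀, rfl⟩ := Sylow.mapSurjective_surjective hπs 2 T
  rw [Sylow.coe_mapSurjective] at hxS hxT hy
  obtain ⟨s, hs, rfl⟩ := hxS
  obtain ⟨t, ht, hts⟩ := hxT
  obtain ⟨r, hr, rfl⟩ := hy
  have hne₀ : S₀ ≠ T₀ := fun e => hne (by rw [e])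
  -- `z = t⁻¹ s` is a central 2-element
  set z := t⁻¹ * s with hz
  have hzZ : z ∈ center G := hZ (QuotientGroup.eq.1 hts)
  have hcomm : Commute t s := by
    have h := mem_center_iff.1 hzZ t
    show t * s = s * t
    rw [hz] at h
    calc t * s = t * (t * (t⁻¹ * s)) := by group
      _ = t * (t⁻¹ * s * t) := by rw [h]
      _ = s * t := by group
  have hz2 : IsPGroup 2 (zpowers z) := by
    obtain ⟨i, hi⟩ := S₀.2.exists_orderOf_eq_pow ⟨s, hs⟩
    obtain ⟨j, hj⟩ := T₀.2.exists_orderOf_eq_pow ⟨t, ht⟩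
    rw [Subgroup.orderOf_mk] at hi hj
    have h1 : z ^ 2 ^ (i + j) = 1 := by
      rw [hz, (hcomm.inv_left).mul_pow, inv_pow,
        orderOf_dvd_iff_pow_eq_one.1 (hj ▸ pow_dvd_pow 2 (Nat.le_add_left j i)),
        orderOf_dvd_iff_pow_eq_one.1 (hi ▸ pow_dvd_pow 2 (Nat.le_add_right i j)), inv_one, one_mul]
    obtain ⟨k, -, hk⟩ := (Nat.dvd_prime_pow Nat.prime_two).1 (orderOf_dvd_of_pow_eq_one h1)
    exact IsPGroup.of_card (n := k) (by rw [Nat.card_zpowers, hk])
  have hzT : z ∈ (T₀ : Subgroup G) := by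
    haveI : (zpowers z).Normal := ⟨fun a ha g => by
      obtain ⟨k, rfl⟩ := mem_zpowers_iff.1 ha
      rw [mem_center_iff.1 (zpow_mem hzZ k) g, mul_inv_cancel_right]
      exact zpow_mem (mem_zpowers z) k⟩
    exact hz2.le_sylow_of_normal T₀ (mem_zpowers z)
  have hsT : s ∈ (T₀ : Subgroup G) := by
    have := mul_mem ht hzT
    rwa [hz, mul_inv_cancel_left] at this
  rw [← map_mul, ← map_mul, hG S₀ T₀ hne₀ s hs hsT r hr]

omit hG

theorem IsCI.equiv {H : Type u} [Group H] [Finite H] (hG : IsCI G) (e : G ≃* H) : IsCI H := by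
  haveI : Fact (Nat.Prime 2) := ⟨Nat.prime_two⟩
  intro S T hne x hxS hxT y hy
  have he : Function.Surjective e.toMonoidHom := e.surjective
  obtain ⟨S₀, rfl⟩ := Sylow.mapSurjective_surjective he 2 S
  obtain ⟨T₀, rfl⟩ := Sylow.mapSurjective_surjective he 2 T
  rw [Sylow.coe_mapSurjective] at hxS hxT hy
  obtain ⟨s, hs, rfl⟩ := hxS
  obtain ⟨t, ht, hts⟩ := hxT
  obtain ⟨r, hr, rfl⟩ := hy
  have h : t = s := e.injective hts
  subst h
  have hne₀ : S₀ ≠ T₀ := fun e' => hne (by rw [e'])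
  rw [← map_mul, ← map_mul, hG S₀ T₀ hne₀ t hs ht r hr]

/-- `z` is an involution of `S` lying in another Sylow subgroup. -/
def IsBad (S : Sylow 2 G) (z : G) : Prop :=
  z ∈ (S : Subgroup G) ∧ orderOf z = 2 ∧ ∃ T : Sylow 2 G, T ≠ S ∧ z ∈ (T : Subgroup G)

/-- The centre of `S` has strongly closed elements of order two. -/
theorem stronglyClosed (hG : IsCI G) (S : Sylow 2 G) {z g : G} (hz : z ∈ Zc S)
    (hg : g * z * g⁻¹ ∈ (S : Subgroup G)) : g * z * g⁻¹ ∈ Zc S := by
  by_contra h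
  have hgN : g ∈ normalizer ((S : Subgroup G) : Set G) := mem_normalizer_of_conj hG hg h (by
    rw [show g⁻¹ * (g * z * g⁻¹) * g = z by group]; exact hz.1)
  refine h (mem_Zc.2 ⟨hg, fun s hs => ?_⟩)
  have h1 := (mem_Zc.1 hz).2 _ ((mem_normalizer_iff''.1 hgN s).1 hs)
  calc s * (g * z * g⁻¹) = g * (g⁻¹ * s * g * z) * g⁻¹ := by group
    _ = g * (z * (g⁻¹ * s * g)) * g⁻¹ := by rw [h1]
    _ = g * z * g⁻¹ * s := by group

/-- without an involution in two Sylow subgroups `N(S)` is strongly embedded -/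
theorem embedded_of_no_bad [IsSimpleGroup G] (hna : ¬ IsMulCommutative G) (S : Sylow 2 G)
    (hev : Even (Nat.card ↥(S : Subgroup G))) (hno : ∀ z, ¬ IsBad S z) :
    Cfsg.IsStronglyEmbedded (normalizer ((S : Subgroup G) : Set G)) := by
  haveI : Fact (Nat.Prime 2) := ⟨Nat.prime_two⟩
  set M := normalizer ((S : Subgroup G) : Set G) with hM
  have hSn : ((S : Subgroup G).subgroupOf M).Normal := normal_in_normalizer
  have hmem : ∀ x ∈ M, orderOf x = 2 → x ∈ (S : Subgroup G) := by
    intro x hx hx2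
    haveI := hSn
    have hp : IsPGroup 2 ↥(zpowers (⟨x, hx⟩ : M)) := IsPGroup.of_card (n := 1) (by
      rw [Nat.card_zpowers, Subgroup.orderOf_mk, hx2, pow_one])
    haveI : (S.subtype le_normalizer : Subgroup M).Normal := hSn
    have hsup := hp.to_sup_of_normal_right (S.subtype le_normalizer).isPGroup'
    have heq := (S.subtype le_normalizer).3 hsup le_sup_right
    have hxS : (⟨x, hx⟩ : M) ∈ (S.subtype le_normalizer : Subgroup M) :=
      heq ▸ mem_sup_left (mem_zpowers _)
    exact hxS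
  refine ⟨fun h => ?_, even_iff_two_dvd.2 ((even_iff_two_dvd.1 hev).trans (card_dvd_of_le le_normalizer)),
    fun g hg => ?_⟩
  · haveI : (S : Subgroup G).Normal := normalizer_eq_top_iff.1 h
    rcases IsSimpleGroup.eq_bot_or_eq_top_of_normal (S : Subgroup G) inferInstance with e | e
    · rw [e, card_bot] at hev
      exact Nat.not_even_one hev
    · haveI := (S.2.of_equiv ((MulEquiv.subgroupCongr e).trans topEquiv)).isNilpotent
      haveI : Group.IsSolvable G := inferInstance
      exact hna ⟨⟨fun a b => IsSimpleGroup.comm_iff_isSolvable.2 inferInstance a b⟩⟩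
  · rw [← Nat.not_even_iff_odd]
    intro hev'
    obtain ⟨x, hx, hx2⟩ := Cfsg.Lib.StrongEmb.exists_involution_of_even hev'
    obtain ⟨y, hy, rfl⟩ := hx.2
    have hy2 : orderOf y = 2 :=
      ((orderOf_injective (MulAut.conj g).toMonoidHom (MulAut.conj g).injective y).symm).trans hx2
    refine hno _ ⟨hmem _ hx.1 hx2, hx2, g • S, fun e => hg (Sylow.smul_eq_iff_mem_normalizer.1 e), ?_⟩
    rw [Sylow.coe_subgroup_smul]
    exact ⟨y, hmem y hy hy2, rfl⟩

end Cfsg.Lib.Walter.CI
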