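import Cfsg.Agent.Walter.CI.Component
import Cfsg.Agent.OddLocal.PLengthOne
import Cfsg.Agent.Coprime.Fitting

/-!
Groups with central Sylow 2-intersections: quotients by normal subgroups of odd order, and the solvable case.
-/

set_option autoImplicit false
set_option linter.unusedSectionVars false
set_option linter.style.haveILetI false

namespace Cfsg.Lib.Walter.CI

open Subgroup
open scoped Pointwise

universe u

variable {G : Type u} [Group G] [Finite G]

/-- quotients by normal subgroups of odd order inherit the property -/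
theorem IsCI.quotient_odd (hG : IsCI G) (O : Subgroup G) [O.Normal] : IsCI (G ⧸ O) := by
  haveI : Fact (Nat.Prime 2) := ⟨Nat.prime_two⟩
  set π := QuotientGroup.mk' O with hπ
  have hπs : Function.Surjective π := QuotientGroup.mk'_surjective O
  intro S T hne x hxS hxT y hy
  obtain ⟨S₀, rfl⟩ := Sylow.mapSurjective_surjective hπs 2 S
  obtain ⟨T₀, rfl⟩ := Sylow.mapSurjective_surjective hπs 2 T
  rw [Sylow.coe_mapSurjective] at hxS hxT hy
  obtain ⟨s, hs, rfl⟩ := hxS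
  obtain ⟨r, hr, rfl⟩ := hy
  set U := ((T₀ : Subgroup G).map π).comap π with hU
  have hT₀U : (T₀ : Subgroup G) ≤ U := le_comap_map _ _
  have hp : IsPGroup 2 ↥(zpowers (⟨s, mem_comap.2 hxT⟩ : ↥U)) := by
    obtain ⟨k, hk⟩ := S₀.2.exists_orderOf_eq_pow ⟨s, hs⟩
    rw [Subgroup.orderOf_mk] at hk
    exact IsPGroup.of_card (n := k) (by rw [Nat.card_zpowers, Subgroup.orderOf_mk, hk])
  obtain ⟨R, hR⟩ := hp.exists_le_sylow
  obtain ⟨g, rfl⟩ := MulAction.exists_smul_eq U (T₀.subtype hT₀U) R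
  have hsR : s ∈ (((g : G) • T₀ : Sylow 2 G) : Subgroup G) := by
    have h1 := hR (mem_zpowers _)
    rw [Sylow.coe_subgroup_smul] at h1
    obtain ⟨a, ha, hag⟩ := h1
    rw [Sylow.coe_subgroup_smul]
    exact ⟨a, ha, congrArg Subtype.val hag⟩
  obtain ⟨v, hv, hvg⟩ := (mem_comap.1 g.2 : π (g : G) ∈ (T₀ : Subgroup G).map π)
  have hne₀ : S₀ ≠ (g : G) • T₀ := by
    intro e
    refine hne (Sylow.ext ?_)
    rw [Sylow.coe_mapSurjective, Sylow.coe_mapSurjective, e, Sylow.coe_subgroup_smul]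
    ext w
    constructor
    · rintro ⟨_, ⟨a, ha, rfl⟩, rfl⟩
      refine ⟨v * a * v⁻¹, mul_mem (mul_mem hv ha) (inv_mem hv), ?_⟩
      show π (v * a * v⁻¹) = π ((g : G) * a * (g : G)⁻¹)
      simp only [map_mul, map_inv, hvg]
    · rintro ⟨a, ha, rfl⟩
      refine ⟨(g : G) * (v⁻¹ * a * v) * (g : G)⁻¹, ⟨v⁻¹ * a * v, mul_mem (mul_mem (inv_mem hv) ha) hv, rfl⟩, ?_⟩
      simp only [map_mul, map_inv, hvg]
      group
  rw [← map_mul, ← map_mul, hG S₀ _ hne₀ s hs hsR r hr]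

/-- odd quotients do not change commutativity of the Sylow subgroups -/
theorem sylow_noncomm_quotient (O : Subgroup G) [O.Normal] (hodd : Odd (Nat.card O)) (S : Sylow 2 G)
    (hS : ¬ IsMulCommutative ↥(S : Subgroup G)) :
    ¬ IsMulCommutative ↥((S.mapSurjective (QuotientGroup.mk'_surjective O) : Sylow 2 (G ⧸ O)) : Subgroup (G ⧸ O)) := by
  intro h
  refine hS ⟨⟨fun a b => Subtype.ext ?_⟩⟩
  haveI : IsMulCommutative ↥((S : Subgroup G).map (QuotientGroup.mk' O)) := h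
  have ha : QuotientGroup.mk' O a ∈ (S : Subgroup G).map (QuotientGroup.mk' O) := mem_map_of_mem _ a.2
  have hb : QuotientGroup.mk' O b ∈ (S : Subgroup G).map (QuotientGroup.mk' O) := mem_map_of_mem _ b.2
  have hc : QuotientGroup.mk' O a * QuotientGroup.mk' O b = QuotientGroup.mk' O b * QuotientGroup.mk' O a :=
    congrArg Subtype.val (mul_comm' (⟨_, ha⟩ : ↥((S : Subgroup G).map (QuotientGroup.mk' O))) ⟨_, hb⟩)
  rw [← map_mul, ← map_mul] at hc
  have h1 : ((a : G) * b)⁻¹ * (b * a) ∈ O := QuotientGroup.eq.1 hc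
  have h2 : ((a : G) * b)⁻¹ * (b * a) ∈ (S : Subgroup G) :=
    mul_mem (inv_mem (mul_mem a.2 b.2)) (mul_mem b.2 a.2)
  obtain ⟨k, hk⟩ := S.2.exists_orderOf_eq_pow ⟨_, h2⟩
  rw [Subgroup.orderOf_mk] at hk
  have h3 := orderOf_eq_one_iff.1 (Nat.eq_one_of_dvd_coprimes ((Nat.coprime_two_left.2 hodd).pow_left k) hk.dvd
    (Subgroup.orderOf_dvd_natCard _ h1))
  exact inv_mul_eq_one.1 h3

theorem exists_ne_of_nonsolvable (hns : ¬ Group.IsSolvable G) (S : Sylow 2 G) : ∃ T : Sylow 2 G, T ≠ S := by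
  by_contra h
  push Not at h
  haveI : Fact (Nat.Prime 2) := ⟨Nat.prime_two⟩
  haveI : Subsingleton (Sylow 2 G) := ⟨fun a b => (h a).trans (h b).symm⟩
  exact hns (solvable_of_normal_sylow S (Sylow.normal_of_subsingleton S))

/-- a normal 2-subgroup is central in the Sylow subgroups, unless there is only one -/
theorem pCore_le_Zc (hG : IsCI G) (S : Sylow 2 G) (h : ∃ T : Sylow 2 G, T ≠ S) : Cfsg.pCore 2 G ≤ Zc S := by
  haveI : Fact (Nat.Prime 2) := ⟨Nat.prime_two⟩
  obtain ⟨T, hT⟩ := h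
  exact fun x hx => mem_Zc_of_inf hG (Ne.symm hT) (Cfsg.Lib.Coprime.pCore_le_sylow 2 S hx)
    (Cfsg.Lib.Coprime.pCore_le_sylow 2 T hx)

/-- the solvable case -/
theorem plength_of_solvable (hG : IsCI G) (hs : Group.IsSolvable G) : Cfsg.PLengthLE 2 1 G := by
  haveI : Fact (Nat.Prime 2) := ⟨Nat.prime_two⟩
  haveI := hs
  rw [Cfsg.Lib.OddP.pLengthLE_one_iff, Cfsg.pPrimePCore,
    index_comap_of_surjective _ (QuotientGroup.mk'_surjective _)]
  set O := Cfsg.pPrimeCore 2 G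
  obtain ⟨S⟩ : Nonempty (Sylow 2 (G ⧸ O)) := inferInstance
  have hle : (S : Subgroup (G ⧸ O)) ≤ Cfsg.pCore 2 (G ⧸ O) := by
    by_cases h : ∃ T : Sylow 2 (G ⧸ O), T ≠ S
    · have h1 := pCore_le_Zc (hG.quotient_odd O) S h
      refine le_trans (fun s hs => mem_centralizer_iff.2 fun x hx => ?_)
        (Cfsg.Lib.Coprime.centralizer_pCore_le 2 Cfsg.Lib.Coprime.pPrimeCore_quotient_eq_bot)
      exact ((mem_Zc.1 (h1 hx)).2 s hs).symm
    · push Not at h
      haveI : Subsingleton (Sylow 2 (G ⧸ O)) := ⟨fun a b => (h a).trans (h b).symm⟩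
      haveI : (S : Subgroup (G ⧸ O)).Normal := Sylow.normal_of_subsingleton S
      exact Cfsg.Lib.Components.le_pCore S.2
  exact ((Nat.prime_two.coprime_iff_not_dvd).2 fun h => S.not_dvd_index (h.trans (index_dvd_of_le hle))).symm

end Cfsg.Lib.Walter.CI
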