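import Cfsg.Agent.Walter.CI.Final
import Cfsg.Agent.Walter.CI.Quotient

/-!
Nonsolvable groups with central Sylow 2-intersections, non-abelian Sylow 2-subgroups and trivial odd core: one
component and a central normal 2-subgroup cover a subgroup of odd index.
-/

set_option autoImplicit false
set_option linter.unusedSectionVars false
set_option linter.style.haveILetI false

namespace Cfsg.Lib.Walter.CI

open Subgroup
open scoped Pointwise commutatorElement

universe u

/-- the structure of a core-free nonsolvable group with central intersections -/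
structure Parts {X : Type u} [Group X] (S : Sylow 2 X) (K P : Subgroup X) : Prop where
  knormal : K.Normal
  pnormal : P.Normal
  p2 : IsPGroup 2 P
  pab : ∀ a ∈ P, ∀ b ∈ P, a * b = b * a
  comm : ∀ a ∈ P, ∀ l ∈ K, a * l = l * a
  odd : Odd (K ⊔ P).index
  perfect : ⁅K, K⁆ = K
  qs : Cfsg.IsQuasisimple ↥K
  center2 : IsPGroup 2 ↥(center ↥K)
  noncomm : ∃ a ∈ (S : Subgroup X) ⊓ K, ∃ b ∈ (S : Subgroup X) ⊓ K, a * b ≠ b * a
  sylow : ∃ Q : Sylow 2 K, (Q : Subgroup K) = (S : Subgroup X).subgroupOf K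
  se : ∃ H : Subgroup (↥K ⧸ center ↥K), Cfsg.IsStronglyEmbedded H

variable {X : Type u} [Group X] [Finite X]

theorem center_two_of_core (hO : Cfsg.pPrimeCore 2 X = ⊥) (K : Subgroup X) [K.Normal] : IsPGroup 2 ↥(center ↥K) := by
  haveI : Fact (Nat.Prime 2) := ⟨Nat.prime_two⟩
  intro c
  obtain ⟨k, m, hm, hkm⟩ := Nat.exists_eq_two_pow_mul_odd (orderOf_pos c).ne'
  refine ⟨k, ?_⟩
  set N := (center ↥K).map K.subtype with hN
  have hcomm : ∀ a ∈ N, ∀ b ∈ N, Commute a b := by
    rintro _ ⟨a, ha, rfl⟩ _ ⟨b, hb, rfl⟩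
    exact congrArg Subtype.val (mem_center_iff.1 hb a)
  let A : Subgroup X :=
    { carrier := {x | x ∈ N ∧ x ^ m = 1}
      one_mem' := ⟨one_mem _, one_pow m⟩
      mul_mem' := fun {a b} ha hb => ⟨mul_mem ha.1 hb.1, by
        rw [(hcomm a ha.1 b hb.1).mul_pow, ha.2, hb.2, one_mul]⟩
      inv_mem' := fun {a} ha => ⟨inv_mem ha.1, by rw [inv_pow, ha.2, inv_one]⟩ }
  haveI : A.Normal := ⟨fun x hx g => ⟨(inferInstance : N.Normal).conj_mem x hx.1 g, by
    rw [conj_pow, hx.2, mul_one, mul_inv_cancel]⟩⟩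
  have hodd : Odd (Nat.card A) := by
    rw [← Nat.not_even_iff_odd, even_iff_two_dvd]
    intro h2
    obtain ⟨⟨y, hy⟩, hy2⟩ := exists_prime_orderOf_dvd_card' 2 h2
    rw [Subgroup.orderOf_mk] at hy2
    have := orderOf_dvd_of_pow_eq_one hy.2
    rw [hy2] at this
    exact Nat.not_even_iff_odd.2 hm (even_iff_two_dvd.2 this)
  have hA : A = ⊥ := le_bot_iff.1 (hO ▸ Cfsg.Lib.Components.le_pPrimeCore (Nat.coprime_two_right.2 hodd))
  have hc : ((c : ↥K) : X) ^ 2 ^ k ∈ A := ⟨pow_mem (mem_map_of_mem _ c.2) _, by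
    rw [← pow_mul, ← hkm]
    exact congrArg (fun w : ↥(center ↥K) => ((w : ↥K) : X)) (pow_orderOf_eq_one c)⟩
  rw [hA, mem_bot] at hc
  exact Subtype.ext (Subtype.ext hc)

theorem exists_parts (elem : ElemProp.{u}) (hG : IsCI X) (hns : ¬ Group.IsSolvable X)
    (hO : Cfsg.pPrimeCore 2 X = ⊥) (S : Sylow 2 X) (hS : ¬ IsMulCommutative ↥(S : Subgroup X)) :
    ∃ K P : Subgroup X, Parts S K P := by
  haveI : Fact (Nat.Prime 2) := ⟨Nat.prime_two⟩
  set P := Cfsg.pCore 2 X with hP
  haveI : P.Normal := (Cfsg.Lib.Components.pCore_normal_and_isPGroup 2).1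
  have hPZ : P ≤ Zc S := pCore_le_Zc hG S (exists_ne_of_nonsolvable hns S)
  have hF : Cfsg.fittingSubgroup X = P := Cfsg.Lib.Coprime.fitting_eq_pCore 2 hO
  have hsP : ∀ s ∈ (S : Subgroup X), ∀ x ∈ P, x * s = s * x := fun s hs x hx =>
    ((mem_Zc.1 (hPZ hx)).2 s hs).symm
  -- a component
  have hE : Cfsg.layer X ≠ ⊥ := by
    intro hE
    have h := (Cfsg.Lib.Components.centralizer_fitting_le_iff).2 hE
    rw [hF] at h
    refine hS ⟨⟨fun a b => Subtype.ext ?_⟩⟩
    exact (hsP a a.2 b (h (mem_centralizer_iff.2 (hsP b b.2)))).symm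
  obtain ⟨K, hKc⟩ : ∃ K : Subgroup X, Cfsg.IsComponent K := by
    by_contra h
    push Not at h
    exact hE (sSup_eq_bot.2 fun K hK => absurd hK (h K))
  have hC1 : ∀ g : X, g ∈ centralizer ({1} : Set X) := fun g =>
    mem_centralizer_singleton_iff.2 (by rw [mul_one, one_mul])
  have hK : Cfsg.IsComponentOf K (centralizer ({1} : Set X)) :=
    ⟨fun g _ => hC1 g, Cfsg.Lib.Components.comp_subgroupOf hKc fun g _ => hC1 g⟩
  have hz : (1 : X) ∈ Zc S := one_mem _
  haveI hKn : K.Normal := normalizer_eq_top_iff.1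
    (top_unique fun g _ => centralizer_le_normalizer_component hG S hS hz hK (hC1 g))
  haveI : IsSimpleGroup (↥K ⧸ center ↥K) := hKc.2.2
  have hse := quot_embedded_of hG S hS elem hz hK fun hnab hCI Q hQ => exists_embedded elem _ hnab hCI Q hQ
  obtain ⟨Q, H, hQ, -, hdec, -⟩ := exists_split hG S hS hz hK hse
  have hKP : ∀ a ∈ P, ∀ l ∈ K, a * l = l * a := by
    intro a ha l hl
    haveI := (Cfsg.Lib.Components.isPGroup_pCore (G := X) 2).isNilpotent
    have h := Cfsg.Lib.Components.layer_commute_solvable_normal (G := X) (H := P)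
      (by rw [hP]; infer_instance)
    have := commutator_mem_commutator (Cfsg.Lib.Components.comp_le_layer hKc hl) ha
    rw [h, mem_bot] at this
    exact (commutatorElement_eq_one_iff_mul_comm.1 this).symm
  -- what centralises the component in `S` lies in `P`
  set C := centralizer (K : Set X) with hC
  haveI hCn : C.Normal := by rw [hC]; infer_instance
  have hEC : Cfsg.layer ↥C = ⊥ := by
    rw [Cfsg.layer, sSup_eq_bot]
    intro M hM
    exfalso
    have hM' : Cfsg.IsComponent (M.map C.subtype) := (Cfsg.Lib.Components.comp_map_subtype_iff hCn.isSubnormal).2 hM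
    have he : M.map C.subtype = K := component_unique hG S hS hz hK
      ⟨fun g _ => hC1 g, Cfsg.Lib.Components.comp_subgroupOf hM' fun g _ => hC1 g⟩
    refine Cfsg.Lib.Components.comp_not_isMulCommutative hKc ⟨⟨fun a b => Subtype.ext ?_⟩⟩
    exact mem_centralizer_iff.1 (map_subtype_le M (he.ge b.2)) a a.2
  have hFC : (Cfsg.fittingSubgroup ↥C).map C.subtype ≤ P := by
    rw [← hF]
    haveI : (Cfsg.fittingSubgroup ↥C).Normal := inferInstance
    haveI := Cfsg.Lib.Components.isNilpotent_fitting (G := ↥C)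
    exact le_sSup ⟨inferInstance, Cfsg.Lib.Components.isNilpotent_map inferInstance C.subtype⟩
  have hSC : (S : Subgroup X) ⊓ C ≤ P := by
    intro s hs
    refine hFC ⟨⟨s, hs.2⟩, (Cfsg.Lib.Components.centralizer_fitting_le_iff).2 hEC
      (mem_centralizer_iff.2 fun x hx => Subtype.ext ?_), rfl⟩
    exact hsP s hs.1 x (hFC (mem_map_of_mem _ hx))
  have hdecP : ∀ s ∈ (S : Subgroup X), ∃ q ∈ (S : Subgroup X) ⊓ K, ∃ d ∈ P, s = q * d := fun s hs => by
    obtain ⟨q, hq, d, hd, e⟩ := hdec s hs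
    exact ⟨q, hq, d, hSC hd, e⟩
  refine ⟨K, P, hKn, inferInstance, Cfsg.Lib.Components.isPGroup_pCore 2, fun a ha b hb => ?_, hKP, ?_,
    comp_of_perfect hK, hKc.2, center_two_of_core hO K, ?_, ⟨Q, hQ⟩, hse⟩
  · exact ((mem_Zc.1 (hPZ hb)).2 a (hPZ ha).1)
  · rw [← Nat.not_even_iff_odd, even_iff_two_dvd]
    intro h
    refine S.not_dvd_index (h.trans (index_dvd_of_le fun s hs => ?_))
    obtain ⟨q, hq, d, hd, rfl⟩ := hdecP s hs
    exact mul_mem_sup hq.2 hd
  · by_contra h
    push Not at h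
    refine hS ⟨⟨fun a b => Subtype.ext ?_⟩⟩
    obtain ⟨q, hq, d, hd, ea⟩ := hdecP a a.2
    obtain ⟨r, hr, e, he, eb⟩ := hdecP b b.2
    show (a : X) * b = b * a
    rw [ea, eb]
    have h1 : Commute q r := h q hq r hr
    have h2 : Commute q e := (hsP q hq.1 e he).symm
    have h3 : Commute d r := hsP r hr.1 d hd
    have h4 : Commute d e := hsP e (hPZ he).1 d hd
    exact ((h1.mul_right h2).mul_left (h3.mul_right h4)).eq

end Cfsg.Lib.Walter.CI
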