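import Cfsg.Agent.Walter.CI.Component
import Cfsg.Agent.Walter.CI.Embedded

/-!
When the central quotient of the component has a strongly embedded subgroup: the shape of `S` and of the
action of `N_K(S)`.
-/

set_option autoImplicit false
set_option linter.unusedSectionVars false
set_option linter.style.haveILetI false

namespace Cfsg.Lib.Walter.CI

open Subgroup
open scoped Pointwise commutatorElement

universe u

variable {G : Type u} [Group G] [Finite G]

/-- What the end of the proof uses of a component `K` of `C(z)`. -/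
structure Pack (S : Sylow 2 G) (z : G) (K : Subgroup G) : Prop where
  zc : z ∈ Zc S
  ord : orderOf z = 2
  comp : Cfsg.IsComponentOf K (centralizer ({z} : Set G))
  norm : centralizer ({z} : Set G) ≤ normalizer (K : Set G)
  central : (S : Subgroup G) ⊓ centralizer (K : Set G) ≤ Zc S
  decomp : ∀ s ∈ (S : Subgroup G), ∃ q ∈ (S : Subgroup G) ⊓ K, ∃ d ∈ (S : Subgroup G) ⊓ centralizer (K : Set G),
    s = q * d
  solv : ∀ q ∈ (S : Subgroup G) ⊓ K, q ∉ centralizer (K : Set G) → q * q ∈ centralizer (K : Set G) →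
    Group.IsSolvable ↥(K ⊓ centralizer ({q} : Set G))
  moved : ∀ q ∈ (S : Subgroup G) ⊓ K, q ∉ centralizer (K : Set G) → q * q ∈ centralizer (K : Set G) →
    ∃ n ∈ K, n ∈ normalizer ((S : Subgroup G) : Set G) ∧ n * q * n⁻¹ * q⁻¹ ∉ centralizer (K : Set G)
  fuse : ∀ q ∈ (S : Subgroup G) ⊓ K, ∀ r ∈ (S : Subgroup G) ⊓ K,
    q ∉ centralizer (K : Set G) → q * q ∈ centralizer (K : Set G) →
    r ∉ centralizer (K : Set G) → r * r ∈ centralizer (K : Set G) →
    ∃ n ∈ K, n ∈ normalizer ((S : Subgroup G) : Set G) ∧ n * q * n⁻¹ * r⁻¹ ∈ centralizer (K : Set G)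
  quot : ∃ H : Subgroup (↥K ⧸ center ↥K), Cfsg.IsStronglyEmbedded H ∧
    ∀ x : ↥K, QuotientGroup.mk x ∈ H ↔ (x : G) ∈ normalizer ((S : Subgroup G) : Set G)
  cover : ∀ H : Subgroup (↥K ⧸ center ↥K), Cfsg.IsStronglyEmbedded H →
    (∀ x : ↥K, QuotientGroup.mk x ∈ H → (x : G) ∈ normalizer ((S : Subgroup G) : Set G)) →
    ∀ x : ↥K, QuotientGroup.mk x ∈ H → orderOf (QuotientGroup.mk x : ↥K ⧸ center ↥K) = 2 →
      ∃ q ∈ (S : Subgroup G) ⊓ K, (x : G)⁻¹ * q ∈ centralizer (K : Set G)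

theorem mem_center_coe {K : Subgroup G} (x : ↥K) : x ∈ center ↥K ↔ (x : G) ∈ centralizer (K : Set G) := by
  rw [mem_center_iff, mem_centralizer_iff]
  exact ⟨fun h g hg => congrArg Subtype.val (h ⟨g, hg⟩), fun h g => Subtype.ext (h g g.2)⟩

variable (hG : IsCI G) (S : Sylow 2 G) (hS : ¬ IsMulCommutative ↥(S : Subgroup G))
include hG hS

/-- `S = (S ∩ K) C_S(K)` and the normaliser of `S` in `K`. -/
theorem exists_split {z : G} (hz : z ∈ Zc S) {K : Subgroup G}
    (hK : Cfsg.IsComponentOf K (centralizer ({z} : Set G)))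
    [IsSimpleGroup (↥K ⧸ center ↥K)]
    (hse : ∃ H : Subgroup (↥K ⧸ center ↥K), Cfsg.IsStronglyEmbedded H) :
    ∃ (P : Sylow 2 K) (H : Subgroup (↥K ⧸ center ↥K)), (P : Subgroup K) = (S : Subgroup G).subgroupOf K ∧
      Pair H (P.mapSurjective (QuotientGroup.mk'_surjective (center ↥K))) ∧
      (∀ s ∈ (S : Subgroup G), ∃ q ∈ (S : Subgroup G) ⊓ K, ∃ d ∈ (S : Subgroup G) ⊓ centralizer (K : Set G),
        s = q * d) ∧
      ∀ x : ↥K, QuotientGroup.mk x ∈ H ↔ (x : G) ∈ normalizer ((S : Subgroup G) : Set G) := by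
  haveI : Fact (Nat.Prime 2) := ⟨Nat.prime_two⟩
  have hq := comp_qs hK
  haveI := hq.2
  have hnab : ¬ IsMulCommutative (↥K ⧸ center ↥K) := Cfsg.Lib.CpQuot.not_commutative hq
  obtain ⟨P, hP⟩ := sylow_component hG S hS hz hK
  have hπs : Function.Surjective (QuotientGroup.mk' (center ↥K)) := QuotientGroup.mk'_surjective _
  set π := QuotientGroup.mk' (center ↥K) with hπ
  obtain ⟨H, hH⟩ := exists_pair hnab hse (P.mapSurjective hπs)
  have hker : ∀ x y : ↥K, π x = π y → (x : G)⁻¹ * y ∈ centralizer (K : Set G) := fun x y h => by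
    have := (mem_center_coe _).1 (QuotientGroup.eq.1 h)
    push_cast at this
    exact this
  have hmemP : ∀ x : ↥K, x ∈ (P : Subgroup K) ↔ (x : G) ∈ (S : Subgroup G) := fun x => by rw [hP, mem_subgroupOf]
  have hcomm : ∀ {q c : G}, q ∈ K → c ∈ centralizer (K : Set G) → q * c = c * q := fun {q c} hq hc =>
    mem_centralizer_iff.1 hc q hq
  -- the preimage of `H` normalises `S ∩ K`
  have hlift : ∀ x : ↥K, π x ∈ H → ∀ q ∈ (S : Subgroup G) ⊓ K, (x : G) * q * (x : G)⁻¹ ∈ (S : Subgroup G) := by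
    intro x hx q hq'
    obtain ⟨hqS, hqK⟩ := mem_inf.1 hq'
    have hqP : (⟨q, hqK⟩ : ↥K) ∈ (P : Subgroup K) := (hmemP _).2 hqS
    set y := x * ⟨q, hqK⟩ * x⁻¹ with hy
    have hy' : π y ∈ (P : Subgroup K).map π := by
      rw [hy, map_mul, map_mul, map_inv]
      exact (mem_normalizer_iff.1 (hH.norm.ge hx) _).1 (mem_map_of_mem π hqP)
    obtain ⟨p, hp, hpy⟩ := hy'
    have hc : p⁻¹ * y ∈ center ↥K := QuotientGroup.eq.1 hpy
    have hyn : y ∈ normalizer ((P : Subgroup K) : Set K) := by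
      rw [show y = p * (p⁻¹ * y) by group]
      exact mul_mem (le_normalizer hp) (center_le_normalizer _ hc)
    have hy2 : IsPGroup 2 ↥(zpowers y) := by
      obtain ⟨k, hk⟩ := P.isPGroup'.exists_orderOf_eq_pow ⟨_, hqP⟩
      rw [Subgroup.orderOf_mk] at hk
      refine IsPGroup.of_card (n := k) ?_
      rw [Nat.card_zpowers, hy, show x * (⟨q, hqK⟩ : ↥K) * x⁻¹ = MulAut.conj x ⟨q, hqK⟩ from rfl, MulEquiv.orderOf_eq, hk]
    have := (P.3 (hy2.to_sup_of_normal_right' P.isPGroup' (zpowers_le.2 hyn)) le_sup_right).le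
      (mem_sup_left (mem_zpowers y))
    exact (hmemP y).1 this
  have hmoved : ∀ g : ↥K, π g ∉ H →
      (((g : G) • S : Sylow 2 G) : Subgroup G) ⊓ K ≠ (S : Subgroup G) ⊓ K := by
    intro g hg he
    refine hg (hH.norm.le (mem_normalizer_fintype ?_))
    rintro _ ⟨p, hp, rfl⟩
    rw [← map_inv, ← map_mul, ← map_mul]
    refine mem_map_of_mem π ((hmemP _).2 ?_)
    have : (g : G) * p * (g : G)⁻¹ ∈ (((g : G) • S : Sylow 2 G) : Subgroup G) ⊓ K := by
      refine mem_inf.2 ⟨?_, mul_mem (mul_mem g.2 p.2) (inv_mem g.2)⟩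
      rw [Sylow.coe_subgroup_smul]
      exact ⟨p, (hmemP p).1 hp, rfl⟩
    rw [he] at this
    exact (mem_inf.1 this).1
  obtain ⟨g₀, hg₀⟩ : ∃ g : ↥K, π g ∉ H := by
    by_contra h
    push Not at h
    exact hH.se.1 ((Subgroup.eq_top_iff' H).2 fun x => by obtain ⟨g, rfl⟩ := hπs x; exact h g)
  have hcentral := centralizer_le_Zc hG S hS hz hK
  have hnormK := le_normalizer_component hG S hS hz hK
  -- `S = (S ∩ K) C_S(K)`
  have hdecomp : ∀ s ∈ (S : Subgroup G), ∃ q ∈ (S : Subgroup G) ⊓ K,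
      ∃ d ∈ (S : Subgroup G) ⊓ centralizer (K : Set G), s = q * d := by
    intro s hs
    have hsK := hnormK hs
    let σ : ↥K ≃* ↥K :=
      { toFun := fun v => ⟨s * v * s⁻¹, (mem_normalizer_iff.1 hsK v).1 v.2⟩
        invFun := fun v => ⟨s⁻¹ * v * s, (mem_normalizer_iff''.1 hsK v).1 v.2⟩
        left_inv := fun v => Subtype.ext (show s⁻¹ * (s * v * s⁻¹) * s = v by group)
        right_inv := fun v => Subtype.ext (show s * (s⁻¹ * v * s) * s⁻¹ = v by group)
        map_mul' := fun v w => Subtype.ext (show s * (v * w : G) * s⁻¹ = (s * v * s⁻¹) * (s * w * s⁻¹) by group) }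
    -- the normaliser of `S ∩ K` is invariant
    have hσH : ∀ v, π v ∈ H → π (σ v) ∈ H := by
      intro v hv
      refine hH.norm.le (mem_normalizer_fintype ?_)
      rintro _ ⟨p, hp, rfl⟩
      rw [← map_inv, ← map_mul, ← map_mul]
      refine mem_map_of_mem π ((hmemP _).2 ?_)
      have hp' : s⁻¹ * p * s ∈ (S : Subgroup G) ⊓ K :=
        mem_inf.2 ⟨mul_mem (mul_mem (inv_mem hs) ((hmemP p).1 hp)) hs, (mem_normalizer_iff''.1 hsK p).1 p.2⟩
      have := mul_mem (mul_mem hs (hlift v hv _ hp')) (inv_mem hs)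
      show (s * (v : G) * s⁻¹) * p * (s * (v : G) * s⁻¹)⁻¹ ∈ (S : Subgroup G)
      rwa [show (s * (v : G) * s⁻¹) * p * (s * (v : G) * s⁻¹)⁻¹ =
        s * ((v : G) * (s⁻¹ * p * s) * (v : G)⁻¹) * s⁻¹ by group]
    have hσH' : ∀ v, π (σ v) ∈ H → π v ∈ H := by
      have hinj : ∀ n : ℕ, ∀ v, π v ∈ H → π ((σ ^ n : MulAut ↥K) v) ∈ H := by
        intro n
        induction n with
        | zero => exact fun v hv => hv
        | succ n ih => exact fun v hv => by rw [pow_succ σ, MulAut.mul_apply]; exact ih _ (hσH v hv)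
      intro v hv
      have hn : σ ^ (orderOf σ - 1) * σ = (1 : MulAut ↥K) := by
        rw [← pow_succ, Nat.sub_add_cancel (orderOf_pos σ), pow_orderOf_eq_one]
      have := hinj (orderOf σ - 1) _ hv
      rwa [← MulAut.mul_apply, hn, MulAut.one_apply] at this
    obtain ⟨u, hu, h⟩ := hH.trans (π (σ g₀)) (π g₀) (fun h => hg₀ (hσH' _ h)) hg₀
    obtain ⟨u', hu', rfl⟩ := (show u ∈ (P : Subgroup K).map π from hu)
    set d₀ := (u' : G) * s with hd₀
    have hu'S := (hmemP u').1 hu'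
    set h₀ := g₀⁻¹ * (u' * σ g₀) with hh₀
    have hh₀H : π h₀ ∈ H := by rw [hh₀, map_mul, map_mul, map_inv]; exact h
    have hd₀R : d₀ ∈ normalizer (((((g₀ : G) • S : Sylow 2 G) : Subgroup G) ⊓ K : Subgroup G) : Set G) := by
      refine mem_normalizer_fintype fun x hx => ?_
      obtain ⟨hxg, hxK⟩ := mem_inf.1 hx
      rw [Sylow.coe_subgroup_smul] at hxg
      obtain ⟨p, hp, rfl⟩ := hxg
      have hpK : p ∈ K := by
        have : (g₀ : G) * p * (g₀ : G)⁻¹ ∈ K := hxK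
        have := mul_mem (mul_mem (inv_mem g₀.2) this) g₀.2
        rwa [show (g₀ : G)⁻¹ * ((g₀ : G) * p * (g₀ : G)⁻¹) * g₀ = p by group] at this
      refine mem_inf.2 ⟨?_, ?_⟩
      · rw [Sylow.coe_subgroup_smul]
        refine ⟨(h₀ : G) * (s * p * s⁻¹) * (h₀ : G)⁻¹, hlift h₀ hh₀H _ (mem_inf.2 ⟨mul_mem (mul_mem hs hp) (inv_mem hs),
          (mem_normalizer_iff.1 hsK p).1 hpK⟩), ?_⟩
        show (g₀ : G) * ((h₀ : G) * (s * p * s⁻¹) * (h₀ : G)⁻¹) * (g₀ : G)⁻¹ =
          (u' : G) * s * ((g₀ : G) * p * (g₀ : G)⁻¹) * ((u' : G) * s)⁻¹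
        rw [hh₀]; push_cast
        show (g₀ : G) * ((g₀ : G)⁻¹ * ((u' : G) * (s * g₀ * s⁻¹)) * (s * p * s⁻¹) *
          ((g₀ : G)⁻¹ * ((u' : G) * (s * g₀ * s⁻¹)))⁻¹) * (g₀ : G)⁻¹ = _
        group
      · exact (mem_normalizer_iff.1 (mul_mem (le_normalizer u'.2) hsK) _).1 hxK
    have hd₀S : d₀ ∈ (S : Subgroup G) := mul_mem hu'S hs
    have hd₀Z := stabiliser_central hG S hS hz hK g₀.2 (hmoved g₀ hg₀) hd₀S hd₀R
    -- it centralises `S ∩ K` and fixes a point, so it is trivial on `K`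
    have hfix : π g₀⁻¹ * π (u' * σ g₀ * u'⁻¹) ∈ H := by
      rw [map_mul, map_inv, map_inv, ← mul_assoc]
      exact mul_mem h (inv_mem (hH.norm.le (le_normalizer (mem_map_of_mem π hu'))))
    let τ : ↥K →* ↥K ⧸ center ↥K := MonoidHom.mk' (fun v => π (u' * σ v * u'⁻¹)) fun a b => by
      rw [← map_mul]; congr 1; rw [map_mul]; group
    have hτP : ∀ p ∈ (P : Subgroup K), τ p = π p := by
      intro p hp
      refine congrArg π (Subtype.ext ?_)
      show (u' : G) * (s * p * s⁻¹) * (u' : G)⁻¹ = p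
      have : d₀ * (p : G) = p * d₀ := ((mem_Zc.1 hd₀Z).2 _ ((hmemP p).1 hp)).symm
      calc (u' : G) * (s * p * s⁻¹) * (u' : G)⁻¹ = d₀ * p * d₀⁻¹ := by rw [hd₀]; group
        _ = p := by rw [this, mul_inv_cancel_right]
    have hτH : ∀ v, π v ∈ H → τ v ∈ H := fun v hv => by
      have hu'H : π u' ∈ H := hH.norm.le (le_normalizer (mem_map_of_mem π hu'))
      show π (u' * σ v * u'⁻¹) ∈ H
      rw [map_mul, map_mul, map_inv]
      exact mul_mem (mul_mem hu'H (hσH v hv)) (inv_mem hu'H)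
    -- every coset is fixed
    have hδ : ∀ v : ↥K, (π v)⁻¹ * τ v ∈ H := by
      intro v
      by_cases hv : π v ∈ H
      · exact mul_mem (inv_mem hv) (hτH v hv)
      · obtain ⟨w, hw, hw'⟩ := hH.trans (π g₀) (π v) hg₀ hv
        obtain ⟨w', hwP, rfl⟩ := (show w ∈ (P : Subgroup K).map π from hw)
        set m := v⁻¹ * (w' * g₀) with hm
        have hmH : π m ∈ H := by rw [hm, map_mul, map_mul, map_inv]; exact hw'
        have ev : v = w' * g₀ * m⁻¹ := by rw [hm]; group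
        have e1 : (π v)⁻¹ * τ v = π m * ((π g₀)⁻¹ * τ g₀) * τ m⁻¹ := by
          rw [ev, map_mul, map_mul, map_mul τ, map_mul τ, hτP w' hwP, map_inv π]
          group
        rw [e1]
        refine mul_mem (mul_mem hmH ?_) (hτH _ (by rw [map_inv]; exact inv_mem hmH))
        exact hfix
    have hτid : ∀ v : ↥K, τ v = π v := by
      intro v
      have hcore : (π v)⁻¹ * τ v ∈ H.normalCore := by
        intro y
        obtain ⟨y, rfl⟩ := hπs y
        have h1 := mul_mem (hδ (v * y⁻¹)) (inv_mem (hδ y⁻¹))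
        have e1 : π y * ((π v)⁻¹ * τ v) * (π y)⁻¹ =
            (π (v * y⁻¹))⁻¹ * τ (v * y⁻¹) * ((π y⁻¹)⁻¹ * τ y⁻¹)⁻¹ := by
          rw [map_mul, map_mul τ, map_inv π]
          group
        rw [e1]
        exact h1
      rw [Cfsg.Lib.BenderSE.normalCore_eq_bot_of_simple hH.se, mem_bot, inv_mul_eq_one] at hcore
      exact hcore.symm
    have hd₀C : d₀ ∈ centralizer (K : Set G) := by
      refine commute_of_mod_center (comp_of_perfect hK) fun k hk => ?_
      have h1 := hker _ _ (hτid ⟨k, hk⟩).symm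
      have e1 : d₀ * k * d₀⁻¹ * k⁻¹ = k * (k⁻¹ * ((u' * σ ⟨k, hk⟩ * u'⁻¹ : ↥K) : G)) * k⁻¹ := by
        rw [hd₀]; push_cast
        show _ = k * (k⁻¹ * ((u' : G) * (s * k * s⁻¹) * (u' : G)⁻¹)) * k⁻¹
        group
      rw [e1, mem_centralizer_iff.1 h1 k hk, mul_inv_cancel_right]
      exact mem_inf.2 ⟨mul_mem (inv_mem hk) (u' * σ ⟨k, hk⟩ * u'⁻¹).2, h1⟩
    exact ⟨(u' : G)⁻¹, mem_inf.2 ⟨inv_mem hu'S, inv_mem u'.2⟩, d₀, mem_inf.2 ⟨hd₀S, hd₀C⟩, by rw [hd₀]; group⟩
  -- elements of the preimage of `H` normalise `S`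
  have hNS : ∀ x : ↥K, π x ∈ H → (x : G) ∈ normalizer ((S : Subgroup G) : Set G) := by
    intro x hx
    refine mem_normalizer_fintype fun y hy => ?_
    obtain ⟨q, hq', d, hd, rfl⟩ := hdecomp y hy
    obtain ⟨hdS, hdC⟩ := mem_inf.1 hd
    rw [show (x : G) * (q * d) * (x : G)⁻¹ = (x : G) * q * (x : G)⁻¹ * ((x : G) * d * (x : G)⁻¹) by group,
      hcomm x.2 hdC, mul_inv_cancel_right]
    exact mul_mem (hlift x hx q hq') hdS
  have hNS' : ∀ x : ↥K, (x : G) ∈ normalizer ((S : Subgroup G) : Set G) → π x ∈ H := by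
    intro x hxN
    refine hH.norm.le (mem_normalizer_fintype ?_)
    rintro _ ⟨p, hp, rfl⟩
    rw [← map_inv, ← map_mul, ← map_mul]
    exact mem_map_of_mem π ((hmemP _).2 ((mem_normalizer_iff.1 hxN _).1 ((hmemP p).1 hp)))
  exact ⟨P, H, hP, hH, hdecomp, fun x => ⟨hNS x, hNS' x⟩⟩

theorem exists_pack {z : G} (hz : z ∈ Zc S) (hz2 : orderOf z = 2) {K : Subgroup G}
    (hK : Cfsg.IsComponentOf K (centralizer ({z} : Set G)))
    (hse : ∃ H : Subgroup (↥K ⧸ center ↥K), Cfsg.IsStronglyEmbedded H) : Pack S z K := by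
  haveI : Fact (Nat.Prime 2) := ⟨Nat.prime_two⟩
  have hq := comp_qs hK
  haveI := hq.2
  obtain ⟨P, H, hP, hH, hdecomp, hN⟩ := exists_split hG S hS hz hK hse
  have hπs : Function.Surjective (QuotientGroup.mk' (center ↥K)) := QuotientGroup.mk'_surjective _
  set π := QuotientGroup.mk' (center ↥K) with hπ
  have hker : ∀ x y : ↥K, π x = π y → (x : G)⁻¹ * y ∈ centralizer (K : Set G) := fun x y h => by
    have := (mem_center_coe _).1 (QuotientGroup.eq.1 h)
    push_cast at this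
    exact this
  have hmemP : ∀ x : ↥K, x ∈ (P : Subgroup K) ↔ (x : G) ∈ (S : Subgroup G) := fun x => by rw [hP, mem_subgroupOf]
  have hNS : ∀ x : ↥K, π x ∈ H → (x : G) ∈ normalizer ((S : Subgroup G) : Set G) := fun x => (hN x).1
  have hNS' : ∀ x : ↥K, (x : G) ∈ normalizer ((S : Subgroup G) : Set G) → π x ∈ H := fun x => (hN x).2
  have hcentral := centralizer_le_Zc hG S hS hz hK
  have hord : ∀ {q : G} (hqK : q ∈ K), q ∉ centralizer (K : Set G) → q * q ∈ centralizer (K : Set G) →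
      orderOf (π ⟨q, hqK⟩) = 2 := by
    intro q hqK h1 h2
    refine orderOf_eq_prime ?_ fun e => h1 ((mem_center_coe ⟨q, hqK⟩).1 ((QuotientGroup.eq_one_iff _).1 e))
    rw [pow_two, ← map_mul]
    exact (QuotientGroup.eq_one_iff _).2 ((mem_center_coe (⟨q, hqK⟩ * ⟨q, hqK⟩)).2 h2)
  have hqPb : ∀ {q : G} (hq' : q ∈ (S : Subgroup G) ⊓ K), π ⟨q, (mem_inf.1 hq').2⟩ ∈ (P : Subgroup K).map π :=
    fun {q} hq' => mem_map_of_mem π ((hmemP _).2 (mem_inf.1 hq').1)
  refine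
    { zc := hz, ord := hz2, comp := hK, norm := centralizer_le_normalizer_component hG S hS hz hK
      central := hcentral, decomp := hdecomp
      solv := fun q hq' h1 h2 => ?_, moved := fun q hq' h1 h2 => ?_, fuse := fun q hq' r hr h1 h2 h3 h4 => ?_
      quot := ⟨H, hH.se, fun x => ⟨hNS x, hNS' x⟩⟩, cover := fun H' hH' hN' x hx hx2 => ?_ }
  · haveI := hH.solv
    set C := (centralizer ({q} : Set G)).subgroupOf K
    have hqK := (mem_inf.1 hq').2
    have hCH : C.map π ≤ H := by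
      rintro _ ⟨c, hc, rfl⟩
      refine Cfsg.Lib.StrongEmb.centralizer_le hH.se (hord hqK h1 h2)
        (hH.norm.le (le_normalizer (hqPb hq'))) (mem_centralizer_singleton_iff.2 ?_)
      rw [← map_mul, ← map_mul]
      exact congrArg π (Subtype.ext (mem_centralizer_singleton_iff.1 (mem_subgroupOf.1 hc)))
    haveI : Group.IsSolvable ↥(C.map π) := Cfsg.Lib.Coprime.isSolvable_of_le hCH inferInstance
    have hC : Group.IsSolvable ↥C := by
      haveI : Group.IsSolvable ↥((center ↥K).subgroupOf C) :=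
        Group.isSolvable_of_comm fun a b => Subtype.ext (Subtype.ext (mem_center_iff.1 b.2 a))
      refine Group.isSolvable_of_ker_le_range ((center ↥K).subgroupOf C).subtype (π.subgroupMap C) ?_
      intro x hx
      refine ⟨⟨x, ?_⟩, rfl⟩
      exact mem_subgroupOf.2 ((QuotientGroup.eq_one_iff _).1 (congrArg Subtype.val hx))
    have e : K ⊓ centralizer ({q} : Set G) = C.map K.subtype := by rw [subgroupOf_map_subtype, inf_comm]
    rw [e]
    exact Cfsg.Lib.Coprime.isSolvable_map hC K.subtype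
  · have hqK := (mem_inf.1 hq').2
    obtain ⟨h, hh, hne⟩ := hH.moves _ (hqPb hq') (hord hqK h1 h2)
    obtain ⟨n, rfl⟩ := hπs h
    refine ⟨n, n.2, hNS n hh, fun hc => hne ?_⟩
    rw [← map_inv, ← map_mul, ← map_mul, ← mul_inv_eq_one, ← map_inv, ← map_mul]
    exact (QuotientGroup.eq_one_iff _).2 ((mem_center_coe (n * ⟨q, hqK⟩ * n⁻¹ * ⟨q, hqK⟩⁻¹)).2 hc)
  · have hqK := (mem_inf.1 hq').2
    have hrK := (mem_inf.1 hr).2
    obtain ⟨h, hh, he⟩ := hH.fuse _ (hqPb hq') _ (hqPb hr) (hord hqK h1 h2) (hord hrK h3 h4)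
    obtain ⟨n, rfl⟩ := hπs h
    refine ⟨n, n.2, hNS n hh, ?_⟩
    have : π (n * ⟨q, hqK⟩ * n⁻¹ * ⟨r, hrK⟩⁻¹) = 1 := by
      rw [map_mul, map_mul, map_mul, map_inv, map_inv, he, mul_inv_cancel]
    exact (mem_center_coe (n * ⟨q, hqK⟩ * n⁻¹ * ⟨r, hrK⟩⁻¹)).1 ((QuotientGroup.ker_mk' (center ↥K)).le this)
  · -- an involution of another such subgroup lies in the image of `S ∩ K`
    have hxH : π x ∈ H := hNS' x (hN' x hx)
    obtain ⟨hxP, -⟩ := hH.qinvol (π x) hx2 hxH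
    obtain ⟨p, hp, hpx⟩ := (show π x ∈ (P : Subgroup K).map π from hxP)
    exact ⟨p, mem_inf.2 ⟨(hmemP p).1 hp, p.2⟩, hker x p hpx.symm⟩

end Cfsg.Lib.Walter.CI
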