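import Cfsg.Agent.Walter.CI.Basic
import Cfsg.Agent.InvolCalc.CentralIntersections
import Cfsg.Agent.Coprime.Action
import Cfsg.Agent.Frobenius.UniqueSubgroup

/-!
In a simple group with central Sylow 2-intersections and non-abelian Sylow 2-subgroups every subgroup of odd order
normalised by a Sylow 2-subgroup is centralised by it.
-/

set_option autoImplicit false
set_option linter.unusedSectionVars false
set_option linter.style.haveILetI false

namespace Cfsg.Lib.Walter.CI

open Subgroup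
open scoped commutatorElement

universe u

variable {G : Type u} [Group G] [Finite G]

theorem isCI_hyp (hG : IsCI G) :
    ∀ S T : Sylow 2 G, S ≠ T → ∃ U : Sylow 2 G,
      (S : Subgroup G) ⊓ (T : Subgroup G) ≤ (Subgroup.center ↥(U : Subgroup G)).map (U : Subgroup G).subtype :=
  fun S T hne => ⟨S, fun x hx => ⟨⟨x, hx.1⟩, mem_center_iff.2 fun s => Subtype.ext (hG S T hne x hx.1 hx.2 s s.2), rfl⟩⟩

/-- a characteristic cyclic subgroup of a Sylow 2-subgroup of a simple group is trivial -/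
theorem no_cyclic_char [IsSimpleGroup G] (hna : ¬ IsMulCommutative G) (hG : IsCI G) (S : Sylow 2 G)
    (C : Subgroup ↥(S : Subgroup G)) (hCc : IsCyclic ↥C) (hCh : C.Characteristic) : C = ⊥ := by
  haveI : Fact (Nat.Prime 2) := ⟨Nat.prime_two⟩
  by_contra hC
  have h2 : 2 ∣ Nat.card C := by
    obtain ⟨n, hn⟩ := IsPGroup.iff_card.1 (S.2.to_subgroup C)
    rcases n with _ | n
    · exact absurd (card_eq_one.1 (by rw [hn, pow_zero])) hC
    · exact hn ▸ dvd_pow_self 2 (Nat.succ_ne_zero n)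
  obtain ⟨⟨c, hcC⟩, hc2⟩ := exists_prime_orderOf_dvd_card' 2 h2
  rw [Subgroup.orderOf_mk] at hc2
  have h := Cfsg.Lib.CentralInter.involution_central (isCI_hyp hG) S C hCc hCh c hcC hc2
  have hO : Cfsg.oddCore G = ⊥ := by
    haveI : (Cfsg.oddCore G).Normal := Cfsg.Lib.Components.pPrimeCore_normal' 2
    refine (IsSimpleGroup.eq_bot_or_eq_top_of_normal (Cfsg.oddCore G) inferInstance).resolve_right fun e => ?_
    have hodd : Odd (Nat.card (Cfsg.oddCore G)) := Cfsg.Lib.ZStarApps.odd_card_pPrimeCore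
    rw [e, card_top, ← Nat.not_even_iff_odd] at hodd
    exact hodd (even_iff_two_dvd.2 (h2.trans ((card_subgroup_dvd_card C).trans (card_subgroup_dvd_card _))))
  have hcz : (c : G) ∈ center G := mem_center_iff.2 fun g => by
    have h1 := QuotientGroup.eq.1 (h g)
    rw [hO, mem_bot, inv_mul_eq_one] at h1
    exact mul_inv_eq_iff_eq_mul.1 h1
  rcases IsSimpleGroup.eq_bot_or_eq_top_of_normal (center G) inferInstance with e | e
  · rw [e, mem_bot] at hcz
    have : c = 1 := Subtype.ext hcz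
    rw [this, orderOf_one] at hc2
    exact absurd hc2 (by decide)
  · exact hna ⟨⟨fun a b => mem_center_iff.1 (e.ge (mem_top b)) a⟩⟩

/-- central extensions of a cyclic or quaternion group have a cyclic derived group -/
theorem cyclic_commutator (S : Sylow 2 G)
    (hS : ¬ IsMulCommutative ↥(S : Subgroup G)) (K : Subgroup ↥(S : Subgroup G)) [K.Normal]
    (hK : K ≤ center ↥(S : Subgroup G)) :
    (IsCyclic (↥(S : Subgroup G) ⧸ K) ∨ ∃ n : ℕ, Nonempty ((↥(S : Subgroup G) ⧸ K) ≃* QuaternionGroup (2 ^ n))) →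
      IsCyclic ↥(commutator ↥(S : Subgroup G)) := by
  rintro (hc | ⟨n, ⟨e⟩⟩)
  · haveI := hc
    exact absurd (MonoidHom.isMulCommutative_of_isCyclic_of_ker_le_center (QuotientGroup.mk' K) (by rw [QuotientGroup.ker_mk']; exact hK)) hS
  set π := (e.toMonoidHom.comp (QuotientGroup.mk' K)) with hπ
  have hπs : Function.Surjective π := e.surjective.comp (QuotientGroup.mk'_surjective K)
  have hker : ∀ x, π x = 1 → x ∈ center ↥(S : Subgroup G) := fun x hx => hK (by
    rw [hπ, MonoidHom.comp_apply, MulEquiv.coe_toMonoidHom, e.map_eq_one_iff] at hx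
    exact (QuotientGroup.eq_one_iff x).1 hx)
  obtain ⟨a, ha⟩ := hπs (QuaternionGroup.a 1)
  obtain ⟨b, hb⟩ := hπs (QuaternionGroup.xa 0)
  -- the abelian subgroup of index two
  set A := (zpowers (QuaternionGroup.a (1 : ZMod (2 * 2 ^ n)))).comap π with hA
  haveI : NeZero (2 ^ n) := ⟨(Nat.two_pow_pos n).ne'⟩
  have hmemA : ∀ x ∈ A, ∃ i : ℤ, ∃ z ∈ center ↥(S : Subgroup G), x = a ^ i * z := by
    intro x hx
    obtain ⟨i, hi⟩ := mem_zpowers_iff.1 (mem_comap.1 hx)
    refine ⟨i, (a ^ i)⁻¹ * x, hker _ ?_, (mul_inv_cancel_left _ _).symm⟩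
    rw [map_mul, map_inv, map_zpow, ha, hi, inv_mul_cancel]
  have hcase : ∀ x : ↥(S : Subgroup G), x ∈ A ∨ b⁻¹ * x ∈ A := by
    intro x
    have hpow : ∀ i : ZMod (2 * 2 ^ n), QuaternionGroup.a i ∈ zpowers (QuaternionGroup.a (1 : ZMod (2 * 2 ^ n))) :=
      fun i => mem_zpowers_iff.2 ⟨(i.val : ℤ), by
        rw [zpow_natCast, QuaternionGroup.a_one_pow, ZMod.natCast_zmod_val]⟩
    cases hx : π x with
    | a i => exact Or.inl (mem_comap.2 (by rw [hx]; exact hpow i))
    | xa i =>
      refine Or.inr (mem_comap.2 ?_)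
      rw [map_mul, map_inv, hb, hx]
      have : (QuaternionGroup.xa (0 : ZMod (2 * 2 ^ n)))⁻¹ * QuaternionGroup.xa i = QuaternionGroup.a i := by
        rw [inv_mul_eq_iff_eq_mul, QuaternionGroup.xa_mul_a, zero_add]
      rw [this]
      exact hpow i
  set c := a * b * a⁻¹ * b⁻¹ with hc
  have hconjA : ∀ x ∈ A, b * x * b⁻¹ ∈ A := by
    intro x hx
    rcases hcase (b * x * b⁻¹) with h | h
    · exact h
    · exfalso
      rw [show b⁻¹ * (b * x * b⁻¹) = x * b⁻¹ by group] at h
      have hbA : b ∈ A := inv_mem_iff.1 ((A.mul_mem_cancel_left hx).1 h)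
      obtain ⟨i, z, hz, hbz⟩ := hmemA b hbA
      apply hS
      refine ⟨⟨fun x y => ?_⟩⟩
      have hA' : ∀ y, ∃ i : ℤ, ∃ z ∈ center ↥(S : Subgroup G), y = a ^ i * z := fun y => by
        rcases hcase y with h | h
        · exact hmemA y h
        · exact hmemA y ((A.mul_mem_cancel_left (inv_mem hbA)).1 h)
      obtain ⟨i, z, hz, rfl⟩ := hA' x
      obtain ⟨j, w, hw, rfl⟩ := hA' y
      exact (((Commute.zpow_zpow_self a i j).mul_right (mem_center_iff.1 hw (a ^ i))).mul_left
        ((mem_center_iff.1 hz (a ^ j * w)).symm)).eq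
  -- the commutators lie in the cyclic group of `c`
  have hcomA : ∀ x ∈ A, x * b * x⁻¹ * b⁻¹ ∈ zpowers c := by
    intro x hx
    obtain ⟨i, z, hz, rfl⟩ := hmemA x hx
    have h1 : a ^ i * z * b * (a ^ i * z)⁻¹ * b⁻¹ = a ^ i * b * (a ^ i)⁻¹ * b⁻¹ := by
      rw [mul_assoc (a ^ i) z b, ← mem_center_iff.1 hz b]; group
    rw [h1]
    have hba : Commute a (b * a⁻¹ * b⁻¹) := by
      have hm : b * a⁻¹ * b⁻¹ ∈ A := hconjA _ (inv_mem (mem_comap.2 (by rw [ha]; exact mem_zpowers _)))
      obtain ⟨j, w, hw, hjw⟩ := hmemA _ hm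
      rw [hjw]
      exact ((Commute.self_zpow a j).mul_right (mem_center_iff.1 hw a))
    refine mem_zpowers_iff.2 ⟨i, ?_⟩
    calc c ^ i = (a * (b * a⁻¹ * b⁻¹)) ^ i := by rw [hc]; group
      _ = a ^ i * (b * a⁻¹ * b⁻¹) ^ i := hba.mul_zpow i
      _ = a ^ i * (b * (a ^ i)⁻¹ * b⁻¹) := by rw [conj_zpow, inv_zpow]
      _ = _ := by group
  have hcA : ∀ x ∈ A, Commute c x := by
    intro x hx
    obtain ⟨i, z, hz, rfl⟩ := hmemA x hx
    have haA : a ∈ A := mem_comap.2 (by rw [ha]; exact mem_zpowers _)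
    obtain ⟨j, w, hw, hjw⟩ := hmemA c (by
      rw [hc, show a * b * a⁻¹ * b⁻¹ = a * (b * a⁻¹ * b⁻¹) by group]
      exact mul_mem haA (hconjA _ (inv_mem haA)))
    rw [hjw]
    exact ((Commute.zpow_zpow_self a j i).mul_right (mem_center_iff.1 hz (a ^ j))).mul_left
      ((mem_center_iff.1 hw (a ^ i * z)).symm)
  have hbc : b * c * b⁻¹ ∈ zpowers c := by
    have haA : a ∈ A := mem_comap.2 (by rw [ha]; exact mem_zpowers _)
    have := hcomA _ (hconjA a haA)
    rwa [show b * a * b⁻¹ * b * (b * a * b⁻¹)⁻¹ * b⁻¹ = b * c * b⁻¹ by rw [hc]; group] at this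
  have hN : (zpowers c).Normal := ⟨fun y hy s => by
    obtain ⟨i, rfl⟩ := mem_zpowers_iff.1 hy
    rw [← conj_zpow]
    refine zpow_mem ?_ i
    rcases hcase s with hs | hs
    · rw [← (hcA s hs).eq, mul_inv_cancel_right]; exact mem_zpowers c
    · rw [show s * c * s⁻¹ = b * (b⁻¹ * s * c * (b⁻¹ * s)⁻¹) * b⁻¹ by group, ← (hcA _ hs).eq,
        mul_inv_cancel_right]
      exact hbc⟩
  haveI := hN
  have hcom : commutator ↥(S : Subgroup G) ≤ zpowers c := by
    rw [_root_.commutator_def, commutator_le]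
    intro x _ y _
    rw [← QuotientGroup.eq_one_iff, ← QuotientGroup.mk'_apply, map_commutatorElement, commutatorElement_eq_one_iff_mul_comm]
    set q := QuotientGroup.mk' (zpowers c)
    have hb' : ∀ x ∈ A, q x * q b = q b * q x := fun x hx => by
      rw [← commutatorElement_eq_one_iff_mul_comm, ← map_commutatorElement]
      exact (QuotientGroup.eq_one_iff _).2 (hcomA x hx)
    have hAA : ∀ x ∈ A, ∀ y ∈ A, q x * q y = q y * q x := fun x hx y hy => by
      obtain ⟨i, z, hz, rfl⟩ := hmemA x hx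
      obtain ⟨j, w, hw, rfl⟩ := hmemA y hy
      rw [← map_mul, ← map_mul]
      exact congrArg q (((Commute.zpow_zpow_self a i j).mul_right (mem_center_iff.1 hw (a ^ i))).mul_left
        ((mem_center_iff.1 hz (a ^ j * w)).symm)).eq
    have key : ∀ x y : ↥(S : Subgroup G), y ∈ A → q x * q y = q y * q x := by
      intro x y hy
      rcases hcase x with hx | hx
      · exact hAA x hx y hy
      · rw [show x = b * (b⁻¹ * x) by group, map_mul]
        show Commute (q b * q (b⁻¹ * x)) (q y)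
        exact Commute.mul_left (hb' y hy).symm (hAA _ hx y hy)
    rcases hcase y with hy | hy
    · exact key x y hy
    · rw [show y = b * (b⁻¹ * y) by group, map_mul]
      refine (Commute.mul_right (?_ : Commute (q x) (q b)) (key x _ hy)).eq
      rcases hcase x with hx | hx
      · exact hb' x hx
      · rw [show x = b * (b⁻¹ * x) by group, map_mul]
        exact Commute.mul_left (Commute.refl _) (hb' _ hx)
  exact isCyclic_of_le hcom

/-- a subgroup of odd order normalised by a Sylow 2-subgroup is centralised by it -/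
theorem signalizer_of (hG : IsCI G) (S : Sylow 2 G)
    (hS : ¬ IsMulCommutative ↥(S : Subgroup G)) (hder : ¬ IsCyclic ↥(commutator ↥(S : Subgroup G))) : ∀ (W : Subgroup G), Odd (Nat.card W) →
    (S : Subgroup G) ≤ normalizer (W : Set G) → (S : Subgroup G) ≤ centralizer (W : Set G) := by
  haveI : Fact (Nat.Prime 2) := ⟨Nat.prime_two⟩
  intro W
  induction hn : Nat.card W using Nat.strong_induction_on generalizing W with
  | _ n ih =>
  subst hn
  intro hWo hSW
  have hcop : ∀ {A : Subgroup G}, A ≤ S → (Nat.card A).Coprime (Nat.card W) := fun {A} hA => by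
    obtain ⟨k, hk⟩ := IsPGroup.iff_card.1 (S.2.to_le hA)
    rw [hk]
    exact (Nat.coprime_two_left.2 hWo).pow_left k
  have hsol : Group.IsSolvable W := Cfsg.Agent.PF.isSolvable_of_odd _ hWo
  -- an element centralising `x` outside the centre centralises `S`
  have hfix : ∀ x ∈ (S : Subgroup G), x ∉ Zc S → ∀ w ∈ W, w * x = x * w → w ∈ centralizer ((S : Subgroup G) : Set G) := by
    intro x hxS hx w hw hwx
    have hwN := centralizer_le hG hxS hx (mem_centralizer_singleton_iff.2 hwx)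
    refine mem_centralizer_iff.2 fun s hs => ?_
    have h1 : w * s * w⁻¹ * s⁻¹ = 1 := by
      refine Cfsg.Lib.Coprime.eq_one_of_coprime (hcop le_rfl) (mul_mem ((mem_normalizer_iff.1 hwN s).1 hs) (inv_mem hs)) ?_
      rw [show w * s * w⁻¹ * s⁻¹ = w * (s * w⁻¹ * s⁻¹) by group]
      exact mul_mem hw ((mem_normalizer_iff.1 (hSW hs) _).1 (inv_mem hw))
    exact (commutatorElement_eq_one_iff_mul_comm.1 h1).symm
  by_contra hne
  set F := W ⊓ centralizer ((S : Subgroup G) : Set G) with hF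
  -- proper invariant subgroups are centralised
  have hsub : ∀ V : Subgroup G, V < W → (S : Subgroup G) ≤ normalizer (V : Set G) → V ≤ F := by
    intro V hV hSV
    refine le_inf hV.le fun v hv => mem_centralizer_iff.2 fun s hs => ?_
    have hlt : Nat.card V < Nat.card W := lt_of_le_of_ne (Nat.card_le_card_of_injective _ (inclusion_injective hV.le))
      fun e => hV.ne (eq_of_le_of_card_ge hV.le e.ge)
    exact (mem_centralizer_iff.1 (ih _ hlt V rfl (hWo.of_dvd_nat (card_dvd_of_le hV.le)) hSV hs) v hv).symm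
  have hcomm : ⁅W, (S : Subgroup G)⁆ = W := by
    by_contra h
    have hlt : ⁅W, (S : Subgroup G)⁆ < W := lt_of_le_of_ne (Cfsg.Lib.Coprime.commutator_le_of_le_normalizer hSW) h
    have h1 : ⁅⁅W, (S : Subgroup G)⁆, (S : Subgroup G)⁆ = ⊥ := commutator_eq_bot_iff_le_centralizer.2
      ((hsub _ hlt (Cfsg.Lib.Coprime.le_normalizer_commutator_right _ _)).trans inf_le_right)
    rw [Cfsg.Lib.Coprime.commutator_commutator_eq hSW (hcop le_rfl) (Or.inr hsol), commutator_comm,
      commutator_eq_bot_iff_le_centralizer] at h1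
    exact hne h1
  have hFW : F < W := by
    refine lt_of_le_of_ne inf_le_left fun h => hne fun s hs => mem_centralizer_iff.2 fun w hw => ?_
    exact (mem_centralizer_iff.1 (h.ge hw : w ∈ F).2 s hs).symm
  have hWne : W ≠ ⊥ := fun h => hne fun s _ => mem_centralizer_iff.2 fun w hw => by
    rw [SetLike.mem_coe, h, mem_bot] at hw
    rw [hw, one_mul, mul_one]
  -- `[W, W]` is centralised, so `W/F` is abelian
  have hWW : ⁅W, W⁆ ≤ F := by
    have hlt : ⁅W, W⁆ < W := by
      refine lt_of_le_of_ne (commutator_le_self W) fun h => ?_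
      haveI := hsol
      haveI : Nontrivial W := W.nontrivial_iff_ne_bot.2 hWne
      refine (Group.IsSolvable.commutator_lt_top_of_nontrivial W).ne
        (map_injective W.subtype_injective ?_)
      rw [_root_.commutator_def, map_commutator, ← MonoidHom.range_eq_map, range_subtype, h]
    refine hsub _ hlt fun s hs => ?_
    refine mem_normalizer_fintype fun x hx => ?_
    have hmap : ⁅W, W⁆.map (MulAut.conj s).toMonoidHom = ⁅W, W⁆ := by
      rw [map_commutator]
      have : W.map (MulAut.conj s).toMonoidHom = W := Cfsg.Lib.Coprime.conjMap_eq_self (hSW hs)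
      rw [this]
    exact hmap ▸ mem_map_of_mem _ hx
  -- `C_S(W)` is central
  set K₀ := (centralizer (W : Set G)).subgroupOf (S : Subgroup G) with hK₀
  have hK₀c : K₀ ≤ center ↥(S : Subgroup G) := by
    intro k hk
    rw [mem_subgroupOf] at hk
    refine mem_center_iff.2 fun s => Subtype.ext ?_
    by_contra hne'
    have hkz : (k : G) ∉ Zc S := fun h => hne' ((mem_Zc.1 h).2 s s.2)
    exact hFW.ne (le_antisymm inf_le_left fun w hw => ⟨hw, hfix k k.2 hkz w hw (mem_centralizer_iff.1 hk w hw)⟩)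
  haveI : K₀.Normal := ⟨fun k hk s => by rw [mem_center_iff.1 (hK₀c hk) s, mul_inv_cancel_right]; exact hk⟩
  -- elements outside have fixed points only in `F`
  have hfree : ∀ x ∈ (S : Subgroup G), x ∉ centralizer (W : Set G) → ∀ w ∈ W, w * x = x * w → w ∈ F := by
    intro x hxS hx w hw hwx
    by_cases hz : x ∈ Zc S
    · refine hsub (W ⊓ centralizer ({x} : Set G)) (lt_of_le_of_ne inf_le_left fun h => hx
        (mem_centralizer_iff.2 fun v hv => mem_centralizer_singleton_iff.1 ((h.ge hv).2))) (fun s hs => ?_)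
        ⟨hw, mem_centralizer_singleton_iff.2 hwx⟩
      refine Cfsg.Lib.Coprime.le_normalizer_inf hSW (fun s hs => mem_normalizer_fintype fun v hv => ?_) hs
      refine mem_centralizer_singleton_iff.2 ?_
      have h1 : Commute v x := mem_centralizer_singleton_iff.1 hv
      have h2 : Commute s x := (mem_Zc.1 hz).2 s hs
      exact ((h2.mul_left h1).mul_left h2.inv_left).eq
    · exact ⟨hw, hfix x hxS hz w hw hwx⟩
  -- an element of order two modulo `K₀` inverts `W` modulo `F`
  have hinv : ∀ x ∈ (S : Subgroup G), x ∉ centralizer (W : Set G) → x * x ∈ centralizer (W : Set G) →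
      ∀ w ∈ W, w * (x * w * x⁻¹) ∈ F := by
    intro x hxS hx hxx w hw
    have hw' : x * w * x⁻¹ ∈ W := (mem_normalizer_iff.1 (hSW hxS) w).1 hw
    have hu : w * (x * w * x⁻¹) ∈ W := mul_mem hw hw'
    have hxxw : x * (x * w * x⁻¹) * x⁻¹ = w := by
      calc x * (x * w * x⁻¹) * x⁻¹ = (x * x) * w * (x * x)⁻¹ := by group
        _ = w := by rw [← mem_centralizer_iff.1 hxx w hw, mul_inv_cancel_right]
    set v := w * (x * w * x⁻¹) with hv
    have hxv : x * v * x⁻¹ = (x * w * x⁻¹) * w := by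
      rw [hv, show x * (w * (x * w * x⁻¹)) * x⁻¹ = x * w * x⁻¹ * (x * (x * w * x⁻¹) * x⁻¹) by group, hxxw]
    set f := x * v * x⁻¹ * v⁻¹ with hf
    have hfF : f ∈ F := by
      rw [hf, hxv, hv, show x * w * x⁻¹ * w * (w * (x * w * x⁻¹))⁻¹ = ⁅x * w * x⁻¹, w⁆ by
        rw [commutatorElement_def]; group]
      exact hWW (commutator_mem_commutator hw' hw)
    refine hfree x hxS hx v hu ?_
    -- `f` is fixed and inverted
    have hfx : x * f * x⁻¹ = f := by
      rw [mem_centralizer_iff.1 hfF.2 x hxS, mul_inv_cancel_right]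
    have hff : f * f = 1 := by
      have h2 : x * (x * v * x⁻¹) * x⁻¹ = v := by
        calc x * (x * v * x⁻¹) * x⁻¹ = (x * x) * v * (x * x)⁻¹ := by group
          _ = v := by rw [← mem_centralizer_iff.1 hxx v hu, mul_inv_cancel_right]
      calc f * f = x * f * x⁻¹ * f := by rw [hfx]
        _ = x * (x * v * x⁻¹) * x⁻¹ * v⁻¹ := by rw [hf]; group
        _ = 1 := by rw [h2, mul_inv_cancel]
    have hf1 : f = 1 := by
      rw [← orderOf_eq_one_iff]
      refine Nat.eq_one_of_dvd_coprimes (Nat.coprime_two_left.2 hWo) (orderOf_dvd_of_pow_eq_one (by rw [pow_two, hff]))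
        (Subgroup.orderOf_dvd_natCard W hfF.1)
    exact (mul_inv_eq_iff_eq_mul.1 (mul_inv_eq_one.1 hf1)).symm
  -- hence `S/K₀` has at most one involution
  have huniq : ∀ x y : ↥(S : Subgroup G) ⧸ K₀, orderOf x = 2 → orderOf y = 2 → y ∈ zpowers x := by
    intro x y hx hy
    obtain ⟨x, rfl⟩ := QuotientGroup.mk'_surjective K₀ x
    obtain ⟨y, rfl⟩ := QuotientGroup.mk'_surjective K₀ y
    have hout : ∀ z : ↥(S : Subgroup G), orderOf (QuotientGroup.mk' K₀ z) = 2 →
        (z : G) ∉ centralizer (W : Set G) ∧ (z : G) * z ∈ centralizer (W : Set G) := by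
      intro z hz
      have hzz : QuotientGroup.mk' K₀ z ^ 2 = 1 := orderOf_dvd_iff_pow_eq_one.1 hz.dvd
      rw [pow_two, ← map_mul] at hzz
      refine ⟨fun h => ?_, mem_subgroupOf.1 ((QuotientGroup.eq_one_iff _).1 hzz)⟩
      rw [(QuotientGroup.eq_one_iff z).2 (mem_subgroupOf.2 h) |> fun e : QuotientGroup.mk' K₀ z = 1 => e,
        orderOf_one] at hz
      exact absurd hz (by decide)
    obtain ⟨hx1, hx2⟩ := hout x hx
    obtain ⟨hy1, hy2⟩ := hout y hy
    suffices h : y⁻¹ * x ∈ K₀ by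
      rw [show QuotientGroup.mk' K₀ y = QuotientGroup.mk' K₀ x from QuotientGroup.eq.2 h]
      exact mem_zpowers _
    rw [mem_subgroupOf]
    set g := ((y⁻¹ * x : ↥(S : Subgroup G)) : G) with hg
    have hgS : g ∈ (S : Subgroup G) := (y⁻¹ * x).2
    refine mem_centralizer_iff.2 fun w hw => ?_
    have hw' : g * w * g⁻¹ ∈ W := (mem_normalizer_iff.1 (hSW hgS) w).1 hw
    set f := w⁻¹ * (g * w * g⁻¹) with hf
    have hfF : f ∈ F := by
      have h1 := hinv x x.2 hx1 hx2 w hw
      have h2 := hinv y y.2 hy1 hy2 w hw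
      have h3 : (y : G) * w * (y : G)⁻¹ * ((x : G) * w * (x : G)⁻¹)⁻¹ ∈ F := by
        have := mul_mem (mul_mem h2 (inv_mem h1)) (one_mem F)
        have e : w * ((y : G) * w * (y : G)⁻¹ * ((x : G) * w * (x : G)⁻¹)⁻¹) * w⁻¹ ∈ F := by
          rwa [mul_one, show w * ((y : G) * w * (y : G)⁻¹) * (w * ((x : G) * w * (x : G)⁻¹))⁻¹ =
            w * ((y : G) * w * (y : G)⁻¹ * ((x : G) * w * (x : G)⁻¹)⁻¹) * w⁻¹ by group] at this
        set m := (y : G) * w * (y : G)⁻¹ * ((x : G) * w * (x : G)⁻¹)⁻¹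
        have hm : m ∈ W := mul_mem ((mem_normalizer_iff.1 (hSW y.2) w).1 hw)
          (inv_mem ((mem_normalizer_iff.1 (hSW x.2) w).1 hw))
        have h4 : ⁅w, m⁆ ∈ F := hWW (commutator_mem_commutator hw hm)
        have := mul_mem (inv_mem h4) e
        rwa [show ⁅w, m⁆⁻¹ * (w * m * w⁻¹) = m by rw [commutatorElement_def]; group] at this
      have h5 : (y : G)⁻¹ * ((y : G) * w * (y : G)⁻¹ * ((x : G) * w * (x : G)⁻¹)⁻¹) * y ∈ F := by
        have hc := mem_centralizer_iff.1 h3.2 (y : G)⁻¹ (inv_mem y.2)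
        rwa [hc, inv_mul_cancel_right]
      have hg' : g * w⁻¹ * g⁻¹ = (y : G)⁻¹ * ((x : G) * w * (x : G)⁻¹)⁻¹ * y := by
        rw [hg]; push_cast; group
      have h6 : w * (g * w⁻¹ * g⁻¹) ∈ F := by
        rw [hg']; convert h5 using 1; group
      have h7 := inv_mem h6
      rw [show (w * (g * w⁻¹ * g⁻¹))⁻¹ = g * w * g⁻¹ * w⁻¹ by group] at h7
      have h8 : ⁅w⁻¹, g * w * g⁻¹⁆ ∈ F := hWW (commutator_mem_commutator (inv_mem hw) hw')
      have h9 := mul_mem h8 h7
      rwa [show ⁅w⁻¹, g * w * g⁻¹⁆ * (g * w * g⁻¹ * w⁻¹) = f by rw [commutatorElement_def, hf]; group] at h9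
    have hiter : ∀ k : ℕ, g ^ k * w * (g ^ k)⁻¹ = w * f ^ k := by
      intro k
      induction k with
      | zero => simp
      | succ k ihk =>
        have hfc : Commute g (f ^ k) := Commute.pow_right (mem_centralizer_iff.1 hfF.2 g hgS) k
        calc g ^ (k + 1) * w * (g ^ (k + 1))⁻¹ = g * (g ^ k * w * (g ^ k)⁻¹) * g⁻¹ := by rw [pow_succ']; group
          _ = g * w * (g⁻¹ * (g * f ^ k * g⁻¹) * g) * g⁻¹ := by rw [ihk]; group
          _ = g * w * g⁻¹ * (g * f ^ k * g⁻¹) := by group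
          _ = w * f * f ^ k := by rw [hfc.eq, mul_inv_cancel_right, hf, mul_inv_cancel_left]
          _ = w * f ^ (k + 1) := by rw [pow_succ', mul_assoc]
    have hf1 : f = 1 := by
      rw [← orderOf_eq_one_iff]
      refine Nat.eq_one_of_dvd_coprimes (hcop (zpowers_le.2 hgS)) ?_ (Subgroup.orderOf_dvd_natCard W hfF.1)
      rw [Nat.card_zpowers]
      refine orderOf_dvd_of_pow_eq_one ?_
      have := hiter (orderOf g)
      rw [pow_orderOf_eq_one, one_mul, inv_one, mul_one] at this
      exact left_eq_mul.1 this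
    rw [hf, inv_mul_eq_one] at hf1
    exact mul_inv_eq_iff_eq_mul.1 hf1.symm ▸ rfl
  refine hder (cyclic_commutator S hS K₀ hK₀c ?_)
  rcases Cfsg.Lib.UniqueSub.isCyclic_or_quaternion (S.2.to_quotient K₀) huniq with h | ⟨-, h⟩
  · exact Or.inl h
  · exact Or.inr h

/-- in a simple group -/
theorem signalizer [IsSimpleGroup G] (hna : ¬ IsMulCommutative G) (hG : IsCI G) (S : Sylow 2 G)
    (hS : ¬ IsMulCommutative ↥(S : Subgroup G)) : ∀ (W : Subgroup G), Odd (Nat.card W) →
    (S : Subgroup G) ≤ normalizer (W : Set G) → (S : Subgroup G) ≤ centralizer (W : Set G) := by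
  refine signalizer_of hG S hS fun hc => hS ⟨⟨fun x y => ?_⟩⟩
  have hbot := no_cyclic_char hna hG S (commutator _) hc inferInstance
  have := commutator_mem_commutator (mem_top x) (mem_top y)
  rw [← _root_.commutator_def, hbot, mem_bot] at this
  exact commutatorElement_eq_one_iff_mul_comm.1 this

end Cfsg.Lib.Walter.CI
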